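/-
Elementary facts used for the groups of order 5040: fixed cosets of a Sylow subgroup, involutions
commuting with an element of order five, isolated involutions.
-/
import Mathlib
import Cfsg.Agent.Lib.SmallGroups.Basic
import Cfsg.Agent.Lib.SmallGroups.PrimeSylow
import Cfsg.Agent.Lib.SmallGroups.InvolutionParity
import Cfsg.Agent.Lib.ZStar.Reduce
import Cfsg.Agent.Lib.PSolvable.Core
import Cfsg.Agent.S1253

set_option autoImplicit false
set_option linter.style.haveILetI false

namespace Cfsg.Agent.Lib.SmallGroups.Order5040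

open Subgroup MulAction Cfsg

universe u

variable {G : Type u} [Group G] [Finite G]

/-- A non-abelian simple group has no isolated involution. -/
theorem false_of_isolated [IsSimpleGroup G] (hG : ¬ IsMulCommutative G) {u : G}
    (hu : orderOf u = 2) (hiso : ∀ g : G, Commute u (g * u * g⁻¹) → g * u * g⁻¹ = u) : False := by
  have hne : oddCore G ≠ ⊤ := fun h => by
    have h1 : (Nat.card (oddCore G)).Coprime 2 := PSolvable.pPrimeCore_coprime (p := 2)
    rw [h, card_top, Nat.coprime_two_right] at h1
    exact (Nat.not_even_iff_odd.mpr h1) (even_iff_two_dvd.mpr (hu ▸ orderOf_dvd_natCard u))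
  have hbot : oddCore G = ⊥ := eq_bot_of_normal_of_ne_top inferInstance hne
  have hu1 : u ∈ center G := mem_center_iff.mpr fun g => by
    have h := S1253.zstar_statement G u ⟨hu, hiso⟩ g
    rw [hbot, mem_bot, mul_inv_eq_one, mul_inv_eq_iff_eq_mul] at h
    exact h.symm
  rw [center_eq_bot hG, mem_bot] at hu1
  rw [hu1, orderOf_one] at hu
  norm_num at hu

/-- The only coset of an overgroup of a Sylow normalizer fixed by the Sylow subgroup is the trivial
one. -/
theorem mem_of_fixed {p : ℕ} [Fact p.Prime] (P : Sylow p G) {H : Subgroup G}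
    (hH : normalizer ((P : Subgroup G) : Set G) ≤ H) {g : G}
    (hfix : ∀ x ∈ (P : Subgroup G), x • (g : G ⧸ H) = (g : G ⧸ H)) : g ∈ H := by
  have hP : (P : Subgroup G) ≤ H := le_normalizer.trans hH
  have hP' : ((g⁻¹ • P : Sylow p G) : Subgroup G) ≤ H := by
    intro x hx
    rw [Sylow.coe_subgroup_smul] at hx
    obtain ⟨y, hy, rfl⟩ := hx
    have h1 := hfix y hy
    change QuotientGroup.mk (y * g) = QuotientGroup.mk g at h1
    rw [QuotientGroup.eq] at h1
    simpa [MulAut.conj_apply, mul_assoc] using H.inv_mem h1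
  obtain ⟨k, hk⟩ := MulAction.exists_smul_eq H (P.subtype hP) ((g⁻¹ • P : Sylow p G).subtype hP')
  rw [Sylow.smul_subtype] at hk
  have h2 := Sylow.subtype_injective hk
  have h3 : (g * k) • P = P := by
    rw [mul_smul, show (k : G) • P = g⁻¹ • P from h2, smul_inv_smul]
  have h4 := H.mul_mem (hH (Sylow.smul_eq_iff_mem_normalizer.mp h3)) (H.inv_mem k.2)
  simpa [mul_assoc] using h4

/-- The fixed cosets of an element centralizing the Sylow subgroup. -/
theorem card_fixedBy_modEq_one {p : ℕ} [Fact p.Prime] (P : Sylow p G)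
    (hP : Nat.card (P : Subgroup G) = p) {H : Subgroup G}
    (hH : normalizer ((P : Subgroup G) : Set G) ≤ H) {v : G}
    (hvC : v ∈ centralizer ((P : Subgroup G) : Set G)) :
    Nat.card (fixedBy (G ⧸ H) v) ≡ 1 [MOD p] := by
  set base : G ⧸ H := ((1 : G) : G ⧸ H) with hbase
  set F := fixedBy (G ⧸ H) v with hF
  have hFP : ∀ (x : (P : Subgroup G)) (b : G ⧸ H), b ∈ F → (x : G) • b ∈ F := by
    intro x b hb
    rw [hF, mem_fixedBy, smul_smul, ← mem_centralizer_iff.mp hvC x x.2, mul_smul, mem_fixedBy.mp hb]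
  letI act : MulAction (P : Subgroup G) F :=
    { smul := fun x b => ⟨(x : G) • b.1, hFP x b.1 b.2⟩
      one_smul := fun b => Subtype.ext (one_smul G b.1)
      mul_smul := fun x y b => Subtype.ext (mul_smul (x : G) (y : G) b.1) }
  have hmod := (IsPGroup.of_card (p := p) (n := 1) (G := (P : Subgroup G))
    (by rw [hP, pow_one])).card_modEq_card_fixedPoints F
  have hbaseF : base ∈ F := by
    show QuotientGroup.mk (v * 1) = QuotientGroup.mk 1
    rw [QuotientGroup.eq, mul_one, mul_one]
    exact H.inv_mem (hH (centralizer_le_normalizer' _ hvC))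
  have hbasefix : (⟨base, hbaseF⟩ : F) ∈ fixedPoints (P : Subgroup G) F := by
    intro x
    apply Subtype.ext
    show QuotientGroup.mk ((x : G) * 1) = QuotientGroup.mk 1
    rw [QuotientGroup.eq, mul_one, mul_one]
    exact H.inv_mem (hH (le_normalizer x.2))
  have hone : Nat.card (fixedPoints (P : Subgroup G) F) = 1 := by
    rw [Nat.card_eq_one_iff_unique]
    refine ⟨⟨fun b c => ?_⟩, ⟨⟨_, hbasefix⟩⟩⟩
    have key : ∀ b : fixedPoints (P : Subgroup G) F, b.1.1 = base := by
      intro b
      obtain ⟨g, hg⟩ := QuotientGroup.mk_surjective b.1.1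
      rw [← hg, hbase, QuotientGroup.eq, mul_one]
      refine H.inv_mem (mem_of_fixed P hH fun x hx => ?_)
      rw [hg]
      exact congrArg Subtype.val (b.2 ⟨x, hx⟩)
    exact Subtype.ext (Subtype.ext ((key b).trans (key c).symm))
  rwa [hone] at hmod

/-- An involution of a simple group does not fix every coset of a proper subgroup. -/
theorem card_fixedBy_ne_index [IsSimpleGroup G] {H : Subgroup G} (hH : H ≠ ⊤) {v : G}
    (hv : orderOf v = 2) : Nat.card (fixedBy (G ⧸ H) v) ≠ H.index := by
  intro hc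
  have hbij : Function.Bijective (Subtype.val : fixedBy (G ⧸ H) v → G ⧸ H) :=
    (Nat.bijective_iff_injective_and_card _).mpr ⟨Subtype.val_injective, by rw [hc, index_eq_card]⟩
  have h1 : v = 1 := toPermHom_injective hH (by
    rw [map_one]
    refine Equiv.ext fun b => ?_
    obtain ⟨c, rfl⟩ := hbij.2 b
    exact c.2)
  rw [h1, orderOf_one] at hv
  norm_num at hv

variable [IsSimpleGroup G]

/-- In an action on 21 cosets, an involution in the centralizer of a Sylow 5-subgroup fixes only the
trivial coset. -/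
theorem eq_base_of_fixed (hG : ¬ IsMulCommutative G) [Fact (Nat.Prime 5)] (P : Sylow 5 G)
    (hP : Nat.card (P : Subgroup G) = 5) {H : Subgroup G}
    (hH : normalizer ((P : Subgroup G) : Set G) ≤ H) (hidx : H.index = 21) {v : G}
    (hv : orderOf v = 2) (hvC : v ∈ centralizer ((P : Subgroup G) : Set G)) {a : G ⧸ H}
    (ha : v • a = a) : a = ((1 : G) : G ⧸ H) := by
  have hX : Nat.card (G ⧸ H) = 21 := by rw [← index_eq_card, hidx]
  have hHt : H ≠ ⊤ := fun h => by rw [h, index_top] at hidx; norm_num at hidx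
  set base : G ⧸ H := ((1 : G) : G ⧸ H) with hbase
  set F := fixedBy (G ⧸ H) v with hF
  have hmod : Nat.card F ≡ 1 [MOD 5] := card_fixedBy_modEq_one P hP hH hvC
  have hbaseF : base ∈ F := by
    show QuotientGroup.mk (v * 1) = QuotientGroup.mk 1
    rw [QuotientGroup.eq, mul_one, mul_one]
    exact H.inv_mem (hH (centralizer_le_normalizer' _ hvC))
  have h4 := card_fixedBy_mod_four hG (X := G ⧸ H) hv
  rw [hX, ← hF] at h4
  have hle : Nat.card F ≤ 21 := hX ▸ Nat.card_le_card_of_injective (Subtype.val) Subtype.val_injective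
  have h21 : Nat.card F ≠ 21 := hidx ▸ card_fixedBy_ne_index hHt hv
  have hF1 : Nat.card F = 1 := by
    unfold Nat.ModEq at hmod
    omega
  haveI := (Nat.card_eq_one_iff_unique.mp hF1).1
  exact congrArg Subtype.val (Subsingleton.elim (⟨a, ha⟩ : F) ⟨base, hbaseF⟩)

/-- The centralizer of an involution with index 21 cannot contain a Sylow 5-normalizer. -/
theorem false_of_index_twenty_one (hG : ¬ IsMulCommutative G) [Fact (Nat.Prime 5)] (P : Sylow 5 G)
    (hP : Nat.card (P : Subgroup G) = 5) {u : G} (hu : orderOf u = 2)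
    (huC : u ∈ centralizer ((P : Subgroup G) : Set G))
    (hH : normalizer ((P : Subgroup G) : Set G) ≤ centralizer ({u} : Set G))
    (hidx : (centralizer ({u} : Set G)).index = 21) : False := by
  set H := centralizer ({u} : Set G) with hHdef
  refine false_of_isolated hG hu fun g hg => ?_
  set v := g * u * g⁻¹ with hvdef
  have hvH : v ∈ H := mem_centralizer_singleton_iff.mpr hg.eq.symm
  have hfix : v • ((1 : G) : G ⧸ H) = ((1 : G) : G ⧸ H) := by
    show QuotientGroup.mk (v * 1) = QuotientGroup.mk 1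
    rw [QuotientGroup.eq, mul_one, mul_one]
    exact H.inv_mem hvH
  have h1 : u • ((g⁻¹ : G) : G ⧸ H) = ((g⁻¹ : G) : G ⧸ H) := by
    have h2 : v • ((1 : G) : G ⧸ H) = g • u • g⁻¹ • ((1 : G) : G ⧸ H) := by
      rw [hvdef, mul_smul, mul_smul]
    rw [hfix, eq_comm, ← eq_inv_smul_iff] at h2
    have h3 : g⁻¹ • ((1 : G) : G ⧸ H) = ((g⁻¹ : G) : G ⧸ H) := by
      show QuotientGroup.mk (g⁻¹ * 1) = _
      rw [mul_one]
    rwa [h3] at h2
  have h2 := eq_base_of_fixed hG P hP hH hidx hu huC h1
  rw [QuotientGroup.eq, inv_inv, mul_one] at h2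
  rw [hvdef, mem_centralizer_singleton_iff.mp h2, mul_inv_cancel_right]

end Cfsg.Agent.Lib.SmallGroups.Order5040
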