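/-
A simple group of order 5040 does not have 21 Sylow subgroups of order five.
-/
import Mathlib
import Cfsg.Agent.Lib.SmallGroups.Order5040.Fixed

set_option autoImplicit false
set_option linter.style.haveILetI false

namespace Cfsg.Agent.Lib.SmallGroups.Order5040

open Subgroup MulAction

universe u

variable {G : Type u} [Group G] [Finite G] [IsSimpleGroup G]

theorem false_of_twenty_one (h : Nat.card G = 5040) [Fact (Nat.Prime 5)] (P : Sylow 5 G)
    (hn : Nat.card (Sylow 5 G) = 21) : False := by
  classical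
  haveI : Fact (Nat.Prime 2) := ⟨Nat.prime_two⟩
  haveI : Fact (Nat.Prime 3) := ⟨Nat.prime_three⟩
  have hG : ¬ IsMulCommutative G := not_isMulCommutative_of_not_prime (by rw [h]; norm_num)
  have hP : Nat.card (P : Subgroup G) = 5 :=
    (card_sylow_eq P (k := 1) (m := 1008) (by rw [h]; norm_num) (by norm_num)).trans (pow_one 5)
  set N := normalizer ((P : Subgroup G) : Set G) with hN
  set C := centralizer ((P : Subgroup G) : Set G) with hC
  have hidx : N.index = 21 := by rw [← hn, P.card_eq_index_normalizer]; rfl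
  have hX : Nat.card (G ⧸ N) = 21 := by rw [← index_eq_card, hidx]
  have hN240 : Nat.card N = 240 := by
    have h1 := N.card_mul_index
    rw [hidx, h] at h1
    omega
  have hNt : N ≠ ⊤ := fun hh => by rw [hh, index_top] at hidx; norm_num at hidx
  have hCN : C ≤ N := centralizer_le_normalizer' _
  obtain ⟨e, he, he1, -, hNc⟩ := exists_card_normalizer_eq_of_simple hG P hP
  rw [← hN, hN240, ← hC] at hNc
  have hCcard : 60 ≤ Nat.card C ∧ Nat.card C ∣ 120 := by
    have := Nat.le_of_dvd (by norm_num) he
    interval_cases e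
    · omega
    · exact absurd rfl he1
    · rw [show Nat.card C = 120 by omega]; norm_num
    · norm_num at he
    · rw [show Nat.card C = 60 by omega]; norm_num
  set base : G ⧸ N := ((1 : G) : G ⧸ N) with hbase
  have hNfix : ∀ g : G, g • base = base ↔ g ∈ N := fun g => by
    show QuotientGroup.mk (g * 1) = QuotientGroup.mk 1 ↔ _
    rw [QuotientGroup.eq, mul_one, mul_one, N.inv_mem_iff]
  -- Sylow elements fixing a further point
  have hPfix : ∀ {y : G} {a : G ⧸ N}, y ∈ (P : Subgroup G) → y ≠ 1 → y • a = a → a = base := by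
    intro y a hy hy1 hya
    obtain ⟨g, rfl⟩ := QuotientGroup.mk_surjective a
    rw [hbase, QuotientGroup.eq, mul_one]
    exact N.inv_mem (mem_of_fixed P le_rfl fun x hx => fixed_of_prime hP hy hy1 hya ⟨x, hx⟩)
  let D : G ⧸ N → Subgroup G := fun a => C ⊓ stabilizer G a
  -- a further point has a stabilizer of order three in the centralizer
  have hD : ∀ a : G ⧸ N, a ≠ base → Nat.card (D a) = 3 := by
    intro a ha
    have h5 : ¬ 5 ∣ Nat.card (D a) := by
      intro hd
      obtain ⟨⟨y, hy⟩, hy5⟩ := exists_prime_orderOf_dvd_card' 5 hd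
      rw [Subgroup.orderOf_mk] at hy5
      have hyP : y ∈ (P : Subgroup G) := by
        have h1 : zpowers y ≤ (P : Subgroup G) := by
          have hpg : IsPGroup 5 (zpowers y) :=
            IsPGroup.of_card (n := 1) (by rw [Nat.card_zpowers, hy5, pow_one])
          have h2 := hpg.inf_normalizer_sylow P
          rw [inf_eq_left.mpr (show zpowers y ≤ normalizer (P : Set G) from zpowers_le.mpr (hCN hy.1)),
            eq_comm, inf_eq_left] at h2
          exact h2
        exact h1 (mem_zpowers y)
      exact ha (hPfix hyP (fun hh => by rw [hh, orderOf_one] at hy5; norm_num at hy5) hy.2)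
    have h2 : ¬ 2 ∣ Nat.card (D a) := by
      intro hd
      obtain ⟨⟨v, hv⟩, hv2⟩ := exists_prime_orderOf_dvd_card' 2 hd
      rw [Subgroup.orderOf_mk] at hv2
      exact ha (eq_base_of_fixed hG P hP le_rfl hidx hv2 hv.1 hv.2)
    have hdvd : Nat.card (D a) ∣ 120 := (card_dvd_of_le inf_le_left).trans hCcard.2
    have horb : C.index ≠ 0 ∧ (D a).relIndex C ≤ 20 := by
      refine ⟨index_ne_zero_of_finite, ?_⟩
      have h1 : (stabilizer C a) = (D a).subgroupOf C := by
        ext c
        rw [mem_stabilizer_iff, mem_subgroupOf]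
        exact ⟨fun hc => ⟨c.2, hc⟩, fun hc => hc.2⟩
      rw [relIndex, ← h1, index_stabilizer]
      have hsub : orbit C a ⊆ ({base}ᶜ : Set (G ⧸ N)) := by
        rintro b ⟨c, rfl⟩ hb
        rw [Set.mem_singleton_iff] at hb
        refine ha (smul_left_cancel (c : G) ?_)
        rw [(hNfix c).mpr (hCN c.2)]
        exact hb
      refine (Set.ncard_le_ncard hsub).trans ?_
      rw [Set.ncard_compl, Set.ncard_singleton, hX]
    have hmul : Nat.card (D a) * (D a).relIndex C = Nat.card C := by
      have h1 := ((D a).subgroupOf C).card_mul_index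
      rwa [Nat.card_congr (subgroupOfEquivOfLe (inf_le_left : D a ≤ C)).toEquiv] at h1
    have hle := Nat.le_of_dvd (by norm_num) hdvd
    have h60 := hCcard.1
    have hor := horb.2
    have : 3 ≤ Nat.card (D a) := by nlinarith
    interval_cases Nat.card (D a) <;> omega
  -- subgroups of order three fixing the base point
  have hCle : ∀ W : Subgroup G, Nat.card W = 3 → W ≤ N → W ≤ C := by
    intro W hW hWN w hw
    have h3 : w ^ 3 = 1 := by
      rw [← hW]
      exact congrArg Subtype.val (pow_card_eq_one' (x := (⟨w, hw⟩ : W)))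
    haveI hc : IsCyclic (P : Subgroup G) := isCyclic_of_prime_card hP
    have h4 : ((P : Subgroup G).normalizerMonoidHom ⟨w, hWN hw⟩) ^ 4 = 1 := by
      have h4' := pow_card_eq_one' (x := (P : Subgroup G).normalizerMonoidHom ⟨w, hWN hw⟩)
      rwa [hc.card_mulAut, hP, Nat.totient_prime (by norm_num)] at h4'
    have h3' : ((P : Subgroup G).normalizerMonoidHom ⟨w, hWN hw⟩) ^ 3 = 1 := by
      rw [← map_pow, show (⟨w, hWN hw⟩ : N) ^ 3 = 1 from Subtype.ext h3, map_one]
    have hker : (⟨w, hWN hw⟩ : N) ∈ (P : Subgroup G).normalizerMonoidHom.ker := by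
      rw [MonoidHom.mem_ker]
      have h5 := h4
      rw [pow_succ, h3', one_mul] at h5
      exact h5
    rw [normalizerMonoidHom_ker, mem_subgroupOf] at hker
    exact hker
  have huniq : ∀ (W : Subgroup G) (a : G ⧸ N), Nat.card W = 3 → a ≠ base →
      (∀ w ∈ W, w • base = base) → (∀ w ∈ W, w • a = a) → W = D a := by
    intro W a hW ha hb hfa
    have hWN : W ≤ N := fun w hw => (hNfix w).mp (hb w hw)
    exact Subgroup.eq_of_le_of_card_ge (le_inf (hCle W hW hWN) fun w hw => hfa w hw)
      (by rw [hD a ha, hW])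
  -- two fixed points determine a subgroup of order three
  have hpair : ∀ (W W' : Subgroup G) (a b : G ⧸ N), Nat.card W = 3 → Nat.card W' = 3 → a ≠ b →
      (∀ w ∈ W, w • a = a ∧ w • b = b) → (∀ w ∈ W', w • a = a ∧ w • b = b) → W = W' := by
    intro W W' a b hW hW' hab hf hf'
    obtain ⟨g, hg⟩ := MulAction.exists_smul_eq G base a
    set φ := (MulAut.conj g⁻¹).toMonoidHom
    have hb' : g⁻¹ • b ≠ base := fun hh => hab (by rw [← hg, ← hh, smul_inv_smul])
    have key : ∀ V : Subgroup G, Nat.card V = 3 → (∀ w ∈ V, w • a = a ∧ w • b = b) →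
        V.map φ = D (g⁻¹ • b) := by
      intro V hV hVf
      refine huniq _ _ (by rw [card_map_of_injective (MulAut.conj g⁻¹).injective, hV]) hb' ?_ ?_
      · rintro _ ⟨w, hw, rfl⟩
        show (g⁻¹ * w * g⁻¹⁻¹) • base = base
        rw [inv_inv, mul_smul, mul_smul, hg, (hVf w hw).1, ← hg, inv_smul_smul]
      · rintro _ ⟨w, hw, rfl⟩
        show (g⁻¹ * w * g⁻¹⁻¹) • g⁻¹ • b = g⁻¹ • b
        rw [inv_inv, mul_smul, mul_smul, smul_inv_smul, (hVf w hw).2]
    exact Subgroup.map_injective (MulAut.conj g⁻¹).injective ((key W hW hf).trans (key W' hW' hf').symm)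
  -- the four subgroups fixing the base point
  haveI := Fintype.ofFinite (G ⧸ N)
  let X' : Finset (G ⧸ N) := Finset.univ.erase base
  let S : Finset (Subgroup G) := X'.image D
  have hX' : X'.card = 20 := by
    rw [Finset.card_erase_of_mem (Finset.mem_univ _), Finset.card_univ, ← Nat.card_eq_fintype_card, hX]
  have hfive : ∀ a : G ⧸ N, a ≠ base → 5 ≤ (X'.filter fun b => D b = D a).card := by
    intro a ha
    haveI := Fintype.ofFinite (P : Subgroup G)
    calc 5 = (Finset.univ.image fun x : (P : Subgroup G) => (x : G) • a).card := by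
          rw [Finset.card_image_of_injective, Finset.card_univ, ← Nat.card_eq_fintype_card, hP]
          intro x y hxy
          by_contra hne
          refine ha (hPfix ((P : Subgroup G).mul_mem ((P : Subgroup G).inv_mem x.2) y.2)
            (fun hh => hne (Subtype.ext (inv_mul_eq_one.mp hh))) ?_)
          have hxy' : (x : G) • a = (y : G) • a := hxy
          rw [mul_smul, ← hxy', inv_smul_smul]
      _ ≤ _ := by
          refine Finset.card_le_card fun b hb => ?_
          obtain ⟨x, -, rfl⟩ := Finset.mem_image.mp hb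
          have hne : (x : G) • a ≠ base := fun hh => ha (by
            rw [← inv_smul_smul (x : G) a, hh, (hNfix _).mpr (N.inv_mem (le_normalizer x.2))])
          refine Finset.mem_filter.mpr ⟨Finset.mem_erase.mpr ⟨hne, Finset.mem_univ _⟩, ?_⟩
          refine (huniq (D a) _ (hD a ha) hne (fun w hw => (hNfix w).mpr (hCN hw.1)) ?_).symm
          intro w hw
          have hwx : w * x = x * w := (mem_centralizer_iff.mp hw.1 x x.2).symm
          rw [smul_smul, hwx, mul_smul, show w • a = a from hw.2]
  have hS : S.card ≤ 4 := by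
    have h1 := Finset.card_eq_sum_card_image D X'
    have h2 : ∑ W ∈ S, 5 ≤ ∑ W ∈ S, (X'.filter fun b => D b = W).card := by
      refine Finset.sum_le_sum fun W hW => ?_
      obtain ⟨a, ha, rfl⟩ := Finset.mem_image.mp hW
      exact hfive a (Finset.ne_of_mem_erase ha)
    rw [← h1, hX', Finset.sum_const, smul_eq_mul] at h2
    omega
  -- a subgroup of order three moving the base point
  haveI : Nontrivial (G ⧸ N) := Finite.one_lt_card_iff_nontrivial.mp (by rw [hX]; norm_num)
  obtain ⟨a, ha⟩ := exists_ne base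
  have hW : Nat.card (D a) = 3 := hD a ha
  obtain ⟨c, hc⟩ : ∃ c : G ⧸ N, ∃ w ∈ D a, w • c ≠ c := by
    by_contra hcon
    push Not at hcon
    have h1 : D a = ⊥ := (Subgroup.eq_bot_iff_forall _).mpr fun w hw =>
      toPermHom_injective hNt (by rw [map_one]; exact Equiv.ext fun b => hcon b w hw)
    rw [h1, Subgroup.card_bot] at hW
    norm_num at hW
  obtain ⟨g, hg⟩ := MulAction.exists_smul_eq G c base
  set W₀ := (D a).map (MulAut.conj g).toMonoidHom with hW₀
  have hW₀c : Nat.card W₀ = 3 := by rw [card_map_of_injective (MulAut.conj g).injective, hW]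
  obtain ⟨w₀, hw₀, hw₀c⟩ : ∃ w ∈ W₀, w • base ≠ base := by
    obtain ⟨w, hw, hwc⟩ := hc
    refine ⟨g * w * g⁻¹, ⟨w, hw, rfl⟩, fun hh => hwc ?_⟩
    rw [← hg, mul_smul, mul_smul, inv_smul_smul] at hh
    exact smul_left_cancel g hh
  let F : Finset (G ⧸ N) := Finset.univ.filter fun b => ∀ w ∈ W₀, w • b = b
  have hF : 5 < F.card := by
    let T : Finset (G ⧸ N) := insert base (X'.filter fun b => D b = D a)
    have hT : 6 ≤ T.card := by
      rw [Finset.card_insert_of_notMem (by simp [X'])]
      have := hfive a ha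
      omega
    refine lt_of_lt_of_le (show 5 < T.card by omega) ?_
    refine Finset.card_le_card_of_injOn (fun b => g • b) (fun b hb => ?_)
      (fun x _ y _ hxy => smul_left_cancel g hxy)
    simp only [F, Finset.mem_coe, Finset.mem_filter, Finset.mem_univ, true_and]
    rintro _ ⟨w, hw, rfl⟩
    show (g * w * g⁻¹) • g • b = g • b
    rw [mul_smul, mul_smul, inv_smul_smul]
    rcases Finset.mem_insert.mp hb with rfl | hb
    · rw [(hNfix w).mpr (hCN hw.1)]
    · have h1 : w ∈ D b := (Finset.mem_filter.mp hb).2 ▸ hw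
      rw [show w • b = b from h1.2]
  have hFX : ∀ b ∈ F, b ≠ base := fun b hb hh => hw₀c (by
    rw [← hh]; exact (Finset.mem_filter.mp hb).2 w₀ hw₀)
  have hinj : Set.InjOn D (F : Set (G ⧸ N)) := by
    intro b hb b' hb' hbb
    by_contra hne
    have h1 := hpair (D b) W₀ b b' (hD b (hFX b hb)) hW₀c hne
      (fun w hw => ⟨hw.2, (hbb ▸ hw : w ∈ D b').2⟩)
      (fun w hw => ⟨(Finset.mem_filter.mp hb).2 w hw, (Finset.mem_filter.mp hb').2 w hw⟩)
    exact hw₀c ((hNfix w₀).mpr (hCN (h1 ▸ hw₀ : w₀ ∈ D b).1))
  have h6 := Finset.card_le_card_of_injOn D (t := S) (fun b hb => Finset.mem_image.mpr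
    ⟨b, Finset.mem_erase.mpr ⟨hFX b hb, Finset.mem_univ _⟩, rfl⟩) hinj
  omega

end Cfsg.Agent.Lib.SmallGroups.Order5040
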