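/-
A simple group of order 5040 has 126 Sylow subgroups of order five.
-/
import Mathlib
import Cfsg.Agent.Lib.SmallGroups.Order5040.TwentyOne

set_option autoImplicit false
set_option linter.style.haveILetI false

namespace Cfsg.Agent.Lib.SmallGroups.Order5040

open Subgroup MulAction
open scoped Pointwise

universe u

variable {G : Type u} [Group G] [Finite G]

/-- A subgroup normalizing `C` normalizes the only Sylow subgroup of `C`. -/
theorem le_normalizer_of_unique {p k m : ℕ} [Fact p.Prime] {C H Q : Subgroup G}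
    (hHC : H ≤ normalizer (C : Set G)) (hC : Nat.card C = p ^ k * m) (hm : ¬ p ∣ m) (hQC : Q ≤ C)
    (hQ : Nat.card Q = p ^ k) (huniq : Nat.card (Sylow p C) = 1) :
    H ≤ normalizer (Q : Set G) := by
  haveI : Subsingleton (Sylow p C) := (Nat.card_eq_one_iff_unique.mp huniq).1
  have key : ∀ R : Subgroup G, R ≤ C → Nat.card R = p ^ k → R = Q := by
    have step : ∀ R : Subgroup G, R ≤ C → Nat.card R = p ^ k → ∀ T : Sylow p C,
        R.subgroupOf C = (T : Subgroup C) := by
      intro R hRC hR T
      have hc : Nat.card (R.subgroupOf C) = p ^ k :=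
        (Nat.card_congr (subgroupOfEquivOfLe hRC).toEquiv).trans hR
      obtain ⟨T', hT'⟩ := (IsPGroup.of_card hc).exists_le_sylow
      rw [Subsingleton.elim T T']
      exact Subgroup.eq_of_le_of_card_ge hT' (by rw [hc, card_sylow_eq T' hC hm])
    intro R hRC hR
    have h1 := (step R hRC hR default).trans (step Q hQC hQ default).symm
    have h2 := congrArg (Subgroup.map C.subtype) h1
    rwa [subgroupOf_map_subtype, subgroupOf_map_subtype, inf_eq_left.mpr hRC, inf_eq_left.mpr hQC] at h2
  intro g hg
  have hmap : Q.map (MulAut.conj g).toMonoidHom = Q := by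
    refine key _ ?_ (by rw [card_map_of_injective (MulAut.conj g).injective, hQ])
    rintro _ ⟨q, hq, rfl⟩
    exact (mem_normalizer_iff.mp (hHC hg) q).mp (hQC hq)
  rw [mem_normalizer_iff]
  intro w
  conv_rhs => rw [← hmap]
  constructor
  · exact fun hw => ⟨w, hw, rfl⟩
  · rintro ⟨v, hv, hvw⟩
    simp only [MulEquiv.coe_toMonoidHom, MulAut.conj_apply] at hvw
    rwa [mul_left_cancel (mul_right_cancel hvw)] at hv

omit [Finite G] in
theorem normalizer_le_normalizer_centralizer (P : Subgroup G) :
    normalizer (P : Set G) ≤ normalizer ((centralizer (P : Set G) : Subgroup G) : Set G) := by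
  have key : ∀ g ∈ normalizer (P : Set G), ∀ c ∈ centralizer (P : Set G),
      g * c * g⁻¹ ∈ centralizer (P : Set G) := by
    intro g hg c hc
    refine mem_centralizer_iff.mpr fun x hx => ?_
    have hx' : g⁻¹ * x * g ∈ P := by
      simpa using (mem_normalizer_iff.mp (inv_mem hg) x).mp hx
    have h1 := mem_centralizer_iff.mp hc _ hx'
    calc x * (g * c * g⁻¹) = g * (g⁻¹ * x * g * c) * g⁻¹ := by group
      _ = g * (c * (g⁻¹ * x * g)) * g⁻¹ := by rw [h1]
      _ = g * c * g⁻¹ * x := by group
  intro g hg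
  rw [mem_normalizer_iff]
  refine fun c => ⟨key g hg c, fun hc => ?_⟩
  simpa [mul_assoc] using key g⁻¹ (inv_mem hg) _ hc

variable [IsSimpleGroup G]

omit [IsSimpleGroup G] in
/-- A Sylow subgroup of order seven has six orbits on the 36 cosets of its normalizer. -/
theorem card_orbits_thirty_six [Fact (Nat.Prime 7)] {Y : Sylow 7 G}
    (hY : Nat.card (Y : Subgroup G) = 7)
    (hX : Nat.card (G ⧸ normalizer ((Y : Subgroup G) : Set G)) = 36) :
    Nat.card (orbitRel.Quotient (Y : Subgroup G) (G ⧸ normalizer ((Y : Subgroup G) : Set G))) = 6 := by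
  classical
  haveI := Fintype.ofFinite (Y : Subgroup G)
  haveI := Fintype.ofFinite (G ⧸ normalizer ((Y : Subgroup G) : Set G))
  haveI : ∀ a : (Y : Subgroup G),
      Fintype (fixedBy (G ⧸ normalizer ((Y : Subgroup G) : Set G)) a) := fun a => Fintype.ofFinite _
  haveI := Fintype.ofFinite
    (orbitRel.Quotient (Y : Subgroup G) (G ⧸ normalizer ((Y : Subgroup G) : Set G)))
  have hb := sum_card_fixedBy_eq_card_orbits_mul_card_group (Y : Subgroup G)
    (G ⧸ normalizer ((Y : Subgroup G) : Set G))
  simp only [← Nat.card_eq_fintype_card] at hb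
  rw [← Finset.add_sum_erase _ _ (Finset.mem_univ (1 : (Y : Subgroup G))),
    Finset.sum_congr rfl (g := fun _ => 1) fun a ha => ?_] at hb
  · rw [Finset.sum_const, smul_eq_mul, mul_one, Finset.card_erase_of_mem (Finset.mem_univ _),
      Finset.card_univ, ← Nat.card_eq_fintype_card, hY, fixedBy_one_eq_univ,
      Nat.card_congr (Equiv.Set.univ _), hX] at hb
    unfold orbitRel.Quotient
    omega
  · exact card_fixedBy_of_orderOf Y hY
      (orderOf_eq_of_prime hY a.2 fun hh => (Finset.ne_of_mem_erase ha) (Subtype.ext hh))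

set_option maxHeartbeats 800000 in
/-- A cyclic subgroup of order 35 normalized by a group of order 140 is impossible. -/
theorem false_of_thirty_five (h : Nat.card G = 5040) [Fact (Nat.Prime 7)] [Fact (Nat.Prime 5)]
    (Y : Sylow 7 G) (P : Sylow 5 G)
    (hY : Nat.card (Y : Subgroup G) = 7) (hP : Nat.card (P : Subgroup G) = 5)
    (hN : Nat.card (normalizer ((Y : Subgroup G) : Set G)) = 140)
    (hN5 : Nat.card (normalizer ((P : Subgroup G) : Set G)) = 140)
    (hC : Nat.card (centralizer ((Y : Subgroup G) : Set G)) = 70)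
    (hPC : (P : Subgroup G) ≤ centralizer ((Y : Subgroup G) : Set G)) : False := by
  classical
  haveI : Fact (Nat.Prime 2) := ⟨Nat.prime_two⟩
  have hG : ¬ IsMulCommutative G := not_isMulCommutative_of_not_prime (by rw [h]; norm_num)
  set N := normalizer ((Y : Subgroup G) : Set G) with hNdef
  set C := centralizer ((Y : Subgroup G) : Set G) with hCdef
  set CP := centralizer ((P : Subgroup G) : Set G) with hCPdef
  have hCN : C ≤ N := centralizer_le_normalizer' _
  have huniq : Nat.card (Sylow 5 C) = 1 := by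
    have h1 := card_sylow_dvd (G := C) (p := 5) (k := 1) (m := 14) (by rw [hC]; norm_num) (by norm_num)
    have h2 : Nat.card (Sylow 5 C) % 5 = 1 := card_sylow_modEq_one 5 C
    have := Nat.le_of_dvd (by norm_num) h1
    interval_cases Nat.card (Sylow 5 C) <;> omega
  have hNN5 : N = normalizer ((P : Subgroup G) : Set G) := by
    refine Subgroup.eq_of_le_of_card_ge ?_ (by rw [hN5, hN])
    exact le_normalizer_of_unique (k := 1) (m := 14) (normalizer_le_normalizer_centralizer _)
      (by rw [← hCdef, hC]; norm_num) (by norm_num) hPC (by rw [hP, pow_one]) huniq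
  have hidx : N.index = 36 := by
    have h1 := N.card_mul_index
    rw [hN, h] at h1
    omega
  have hX : Nat.card (G ⧸ N) = 36 := by rw [← index_eq_card, hidx]
  have hNt : N ≠ ⊤ := fun hh => by rw [hh, index_top] at hidx; norm_num at hidx
  have hYCP : (Y : Subgroup G) ≤ CP := fun a ha =>
    mem_centralizer_iff.mpr fun b hb => (mem_centralizer_iff.mp (hPC hb) a ha).symm
  -- an involution centralizing `P` cannot exist
  have hnoinv : ∀ v : G, orderOf v = 2 → v ∉ CP := by
    intro v hv hvC
    have h4 := card_fixedBy_mod_four hG (X := G ⧸ N) hv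
    rw [hX] at h4
    have h5 : Nat.card (fixedBy (G ⧸ N) v) % 5 = 1 :=
      card_fixedBy_modEq_one P hP hNN5.ge hvC
    have hle : Nat.card (fixedBy (G ⧸ N) v) ≤ 36 :=
      hX ▸ Nat.card_le_card_of_injective (Subtype.val) Subtype.val_injective
    have hne := card_fixedBy_ne_index hNt hv
    rw [hidx] at hne
    by_cases hvY : v ∈ C
    · have h7 : Nat.card (fixedBy (G ⧸ N) v) % 7 = 1 := card_fixedBy_modEq_one Y hY le_rfl hvY
      omega
    · have hvN : v ∈ N := hNN5.ge (centralizer_le_normalizer' _ hvC)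
      have hb := card_fixedBy_le_orbits (X := G ⧸ N) hY hvN hvY
      have horb : Nat.card (orbitRel.Quotient (Y : Subgroup G) (G ⧸ N)) = 6 := card_orbits_thirty_six hY hX
      have h6 := le_of_le_of_eq hb horb
      omega
  obtain ⟨e, he, he1, -, hNc⟩ := exists_card_normalizer_eq_of_simple hG P hP
  rw [hN5, ← hCPdef] at hNc
  have he4 : e ≤ 4 := Nat.le_of_dvd (by norm_num) he
  have hCP : Nat.card CP = 35 := by
    have hodd : ¬ 2 ∣ Nat.card CP := fun hd => by
      obtain ⟨⟨v, hvC⟩, hv⟩ := exists_prime_orderOf_dvd_card' 2 hd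
      rw [Subgroup.orderOf_mk] at hv
      exact hnoinv v hv hvC
    interval_cases e <;> omega
  have he' : e = 4 := by rw [hCP] at hNc; omega
  -- the unique class of involutions of the normalizer
  have hCPC : CP ≤ C := by
    have hle : (Y : Subgroup G) ⊔ (P : Subgroup G) ≤ CP := sup_le hYCP (le_centralizer_of_prime hP)
    have heq : (Y : Subgroup G) ⊔ (P : Subgroup G) = CP := by
      refine Subgroup.eq_of_le_of_card_ge hle (Nat.le_of_dvd Nat.card_pos ?_)
      rw [hCP, show 35 = 7 * 5 by norm_num]
      refine Nat.Coprime.mul_dvd_of_dvd_of_dvd (by norm_num) ?_ ?_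
      · have h1 := card_dvd_of_le (le_sup_left : (Y : Subgroup G) ≤ (Y : Subgroup G) ⊔ (P : Subgroup G))
        rwa [hY] at h1
      · have h1 := card_dvd_of_le (le_sup_right : (P : Subgroup G) ≤ (Y : Subgroup G) ⊔ (P : Subgroup G))
        rwa [hP] at h1
    exact heq ▸ sup_le (le_centralizer_of_prime hY) hPC
  obtain ⟨⟨c, hcC⟩, hc2⟩ := exists_prime_orderOf_dvd_card' (G := C) 2 (by rw [hC]; norm_num)
  rw [orderOf_mk] at hc2
  have hcc : c * c = 1 := by rw [← sq, ← hc2, pow_orderOf_eq_one]
  have hci : c⁻¹ = c := inv_eq_of_mul_eq_one_right hcc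
  -- every involution of the normalizer lies in `c • P`
  haveI hcyc : IsCyclic (P : Subgroup G) := isCyclic_of_prime_card hP
  have hinv : ∀ v ∈ N, orderOf v = 2 → c * v ∈ (P : Subgroup G) := by
    intro v hvN hv
    have hvv : v * v = 1 := by rw [← sq, ← hv, pow_orderOf_eq_one]
    set φ := (P : Subgroup G).normalizerMonoidHom
    have hgen : ∀ w : G, w * w = 1 → ∀ hw : w ∈ normalizer ((P : Subgroup G) : Set G),
        w ∉ CP → orderOf (φ ⟨w, hw⟩) = 2 := by
      intro w hw2 hw hwC
      refine orderOf_eq_prime ?_ fun h1 => hwC ?_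
      · rw [← map_pow, show (⟨w, hw⟩ : normalizer ((P : Subgroup G) : Set G)) ^ 2 = 1 from
          Subtype.ext (by show w ^ 2 = 1; rw [sq, hw2]), map_one]
      · have h2 : (⟨w, hw⟩ : normalizer ((P : Subgroup G) : Set G)) ∈ φ.ker := h1
        rwa [normalizerMonoidHom_ker, mem_subgroupOf] at h2
    have hcy : IsCyclic (MulAut (P : Subgroup G)) := by
      haveI : IsCyclic (ZMod 5)ˣ := inferInstance
      obtain ⟨E⟩ : Nonempty (MulAut (P : Subgroup G) ≃* (ZMod 5)ˣ) := by
        have e1 := IsCyclic.mulAutMulEquiv (P : Subgroup G)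
        rw [hP] at e1
        exact ⟨e1⟩
      exact isCyclic_of_surjective E.symm E.symm.surjective
    have h1 := hgen c hcc (hNN5.le (hCN hcC)) fun hh => hnoinv c hc2 hh
    have h2 := hgen v hvv (hNN5.le hvN) fun hh => hnoinv v hv hh
    have heq : φ ⟨c, hNN5.le (hCN hcC)⟩ = φ ⟨v, hNN5.le hvN⟩ := by
      haveI := hcy
      haveI : Fintype (MulAut (P : Subgroup G)) := Fintype.ofFinite _
      by_contra hne
      have h3 := IsCyclic.card_pow_eq_one_le (α := MulAut (P : Subgroup G)) (n := 2) two_pos
      have h4 : ({1, φ ⟨c, hNN5.le (hCN hcC)⟩, φ ⟨v, hNN5.le hvN⟩} : Finset (MulAut (P : Subgroup G))) ⊆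
          Finset.univ.filter fun a => a ^ 2 = 1 := by
        intro a ha
        simp only [Finset.mem_insert, Finset.mem_singleton] at ha
        refine Finset.mem_filter.mpr ⟨Finset.mem_univ _, ?_⟩
        rcases ha with rfl | rfl | rfl
        · exact one_pow 2
        · rw [← h1, pow_orderOf_eq_one]
        · rw [← h2, pow_orderOf_eq_one]
      have h5 := (Finset.card_le_card h4).trans h3
      rw [Finset.card_insert_of_notMem, Finset.card_pair hne] at h5
      · omega
      · simp only [Finset.mem_insert, Finset.mem_singleton, not_or]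
        refine ⟨fun hh => ?_, fun hh => ?_⟩
        · rw [← hh, orderOf_one] at h1; norm_num at h1
        · rw [← hh, orderOf_one] at h2; norm_num at h2
    have hk : c * v ∈ CP := by
      have h3 : (⟨c, hNN5.le (hCN hcC)⟩ * ⟨v, hNN5.le hvN⟩ : normalizer ((P : Subgroup G) : Set G)) ∈
          φ.ker := by
        rw [MonoidHom.mem_ker, map_mul, ← heq, ← map_mul,
          show (⟨c, hNN5.le (hCN hcC)⟩ * ⟨c, hNN5.le (hCN hcC)⟩ : normalizer ((P : Subgroup G) : Set G)) = 1
            from Subtype.ext hcc, map_one]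
      rwa [normalizerMonoidHom_ker, mem_subgroupOf] at h3
    -- `c * v` is inverted by `c`
    set k := c * v with hkdef
    have hinvk : c * k * c⁻¹ = k⁻¹ := by
      rw [hkdef, hci, mul_inv_rev, hci, inv_eq_of_mul_eq_one_right hvv, ← mul_assoc, hcc, one_mul]
    have h5k : k ^ 5 ∈ (Y : Subgroup G) := by
      have hk7 : (k ^ 5) ^ 7 = 1 := by
        rw [← pow_mul, show 5 * 7 = Nat.card CP by rw [hCP]]
        exact congrArg Subtype.val (pow_card_eq_one' (x := (⟨k, hk⟩ : CP)))
      have hk5N : k ^ 5 ∈ N := hCN (hCPC (CP.pow_mem hk 5))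
      have hle : zpowers (k ^ 5) ≤ (Y : Subgroup G) := by
        have hpg : IsPGroup 7 (zpowers (k ^ 5)) := by
          obtain ⟨i, -, hi⟩ := (Nat.dvd_prime_pow (by norm_num : Nat.Prime 7)).mp
            ((orderOf_dvd_of_pow_eq_one hk7).trans (by norm_num : 7 ∣ 7 ^ 1))
          exact IsPGroup.of_card (n := i) (by rw [Nat.card_zpowers, hi])
        have h6 := hpg.inf_normalizer_sylow Y
        rw [inf_eq_left.mpr (show zpowers (k ^ 5) ≤ normalizer (Y : Set G) from zpowers_le.mpr hk5N),
          eq_comm, inf_eq_left] at h6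
        exact h6
      exact hle (mem_zpowers _)
    have h10 : k ^ 10 = 1 := by
      have h6 : c * k ^ 5 * c⁻¹ = k ^ 5 := by
        rw [(mem_centralizer_iff.mp hcC _ h5k).symm, mul_inv_cancel_right]
      rw [← conj_pow, hinvk, inv_pow, inv_eq_iff_mul_eq_one, ← pow_add] at h6
      exact h6
    have h35 : k ^ 35 = 1 := by
      rw [← hCP]; exact congrArg Subtype.val (pow_card_eq_one' (x := (⟨k, hk⟩ : CP)))
    have hk5 : k ^ 5 = 1 := by
      have h40 : k ^ (35 + 5) = 1 := by rw [show 35 + 5 = 10 * 4 by norm_num, pow_mul, h10, one_pow]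
      rwa [pow_add, h35, one_mul] at h40
    have hpg : IsPGroup 5 (zpowers k) := by
      obtain ⟨i, -, hi⟩ := (Nat.dvd_prime_pow (by norm_num : Nat.Prime 5)).mp
        ((orderOf_dvd_of_pow_eq_one hk5).trans (by norm_num : 5 ∣ 5 ^ 1))
      exact IsPGroup.of_card (n := i) (by rw [Nat.card_zpowers, hi])
    have h6 := hpg.inf_normalizer_sylow P
    rw [inf_eq_left.mpr (show zpowers k ≤ normalizer (P : Set G) from
      zpowers_le.mpr (centralizer_le_normalizer' _ hk)), eq_comm, inf_eq_left] at h6
    exact h6 (mem_zpowers k)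
  -- counting
  haveI := Fintype.ofFinite (P : Subgroup G)
  have hj : Nat.card {g : G // IsConj c g ∧ g ∈ N} = 5 := by
    let f : {g : G // IsConj c g ∧ g ∈ N} → ↥(P : Subgroup G) := fun g =>
      ⟨c * g.1, hinv g.1 g.2.2 (by
        obtain ⟨b, hb⟩ := isConj_iff.mp g.2.1
        rw [← hb, ← MulAut.conj_apply, MulEquiv.orderOf_eq, hc2])⟩
    have hf : Function.Injective f := fun a b hab =>
      Subtype.ext (mul_left_cancel (congrArg Subtype.val hab))
    refine le_antisymm (hP ▸ Nat.card_le_card_of_injective f hf) ?_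
    let g : ↥(P : Subgroup G) → {g : G // IsConj c g ∧ g ∈ N} := fun p =>
      ⟨(p : G) * c * (p : G)⁻¹, isConj_iff.mpr ⟨p, rfl⟩,
        N.mul_mem (N.mul_mem (hCN (hPC p.2)) (hCN hcC)) (N.inv_mem (hCN (hPC p.2)))⟩
    refine hP ▸ Nat.card_le_card_of_injective g fun p q hpq => ?_
    have h1 : (p : G) * c * (p : G)⁻¹ = (q : G) * c * (q : G)⁻¹ := congrArg Subtype.val hpq
    by_contra hne
    set r := (q : G)⁻¹ * p with hr
    have hrP : r ∈ (P : Subgroup G) := mul_mem (inv_mem q.2) p.2
    have hr1 : r ≠ 1 := fun hh => hne (Subtype.ext (inv_mul_eq_one.mp hh).symm)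
    refine hnoinv c hc2 ?_
    rw [hCPdef, ← centralizer_eq_of_prime hP hrP hr1, mem_centralizer_singleton_iff, hr]
    calc c * ((q : G)⁻¹ * p) = (q : G)⁻¹ * ((q : G) * c * (q : G)⁻¹) * p := by group
      _ = (q : G)⁻¹ * ((p : G) * c * (p : G)⁻¹) * p := by rw [h1]
      _ = _ := by group
  have hcount := card_fixedBy_mul_card_conj N c
  rw [hj, hidx] at hcount
  have h4 := card_fixedBy_mod_four hG (X := G ⧸ N) hc2
  have h7 : Nat.card (fixedBy (G ⧸ N) c) % 7 = 1 := card_fixedBy_modEq_one Y hY le_rfl hcC
  have hle : Nat.card (fixedBy (G ⧸ N) c) ≤ 36 :=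
    hX ▸ Nat.card_le_card_of_injective (Subtype.val) Subtype.val_injective
  have hne := card_fixedBy_ne_index hNt hc2
  rw [hX] at h4
  rw [hidx] at hne
  have h8 : Nat.card (fixedBy (G ⧸ N) c) = 8 := by omega
  rw [h8] at hcount
  omega

theorem card_sylow_five (h : Nat.card G = 5040) [Fact (Nat.Prime 5)] (P : Sylow 5 G) :
    Nat.card (Sylow 5 G) = 126 := by
  classical
  haveI : Fact (Nat.Prime 7) := ⟨by norm_num⟩
  haveI : Fact (Nat.Prime 3) := ⟨Nat.prime_three⟩
  have hG : ¬ IsMulCommutative G := not_isMulCommutative_of_not_prime (by rw [h]; norm_num)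
  have hP : Nat.card (P : Subgroup G) = 5 :=
    (card_sylow_eq P (k := 1) (m := 1008) (by rw [h]; norm_num) (by norm_num)).trans (pow_one 5)
  have hn := card_sylow_mem hG (p := 5) (k := 1) (m := 1008) (by rw [h]; norm_num) (by norm_num) one_ne_zero
  rw [show (Nat.divisors 1008).filter (fun d => d % 5 = 1 ∧ d ≠ 1) = {6, 16, 21, 36, 56, 126, 336}
    from by decide +kernel] at hn
  have hmul := card_normalizer_sylow_mul P
  obtain ⟨e, he, he1, hC5, hNc⟩ := exists_card_normalizer_eq_of_simple hG P hP
  rw [h] at hmul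
  have he4 : e ≤ 4 := Nat.le_of_dvd (by norm_num) he
  set N := normalizer ((P : Subgroup G) : Set G) with hNdef
  set C := centralizer ((P : Subgroup G) : Set G) with hCdef
  have hCN : C ≤ N := centralizer_le_normalizer' _
  simp only [Finset.mem_insert, Finset.mem_singleton] at hn
  rcases hn with hn | hn | hn | hn | hn | hn | hn
  · exfalso
    have hfac := two_mul_card_dvd_factorial_card_sylow hG (p := 5) (by rw [h]; norm_num)
    rw [hn, h] at hfac
    norm_num [Nat.factorial] at hfac
  · exfalso
    rw [hn] at hmul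
    interval_cases e <;> omega
  · exact (false_of_twenty_one h P hn).elim
  · exfalso
    rw [hn] at hmul
    have hC : 35 ∣ Nat.card C := by
      interval_cases e <;> omega
    obtain ⟨⟨y, hyC⟩, hy⟩ := exists_prime_orderOf_dvd_card' (G := C) 7 ((by norm_num : 7 ∣ 35).trans hC)
    rw [orderOf_mk] at hy
    obtain ⟨Y₀⟩ := (inferInstance : Nonempty (Sylow 7 G))
    have hY₀ : Nat.card (Y₀ : Subgroup G) = 7 :=
      (card_sylow_eq Y₀ (k := 1) (m := 720) (by rw [h]; norm_num) (by norm_num)).trans (pow_one 7)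
    obtain ⟨Y, hYy, -⟩ := existsUnique_sylow_of_orderOf Y₀ hY₀ hy
    have hY : Nat.card (Y : Subgroup G) = 7 := by rw [hYy, Nat.card_zpowers, hy]
    have hyY : y ∈ (Y : Subgroup G) := hYy ▸ mem_zpowers y
    have hy1 : y ≠ 1 := fun hh => by rw [hh, orderOf_one] at hy; norm_num at hy
    have hPC : (P : Subgroup G) ≤ centralizer ((Y : Subgroup G) : Set G) := by
      intro p hp
      rw [← centralizer_eq_of_prime hY hyY hy1, mem_centralizer_singleton_iff]
      exact mem_centralizer_iff.mp hyC p hp
    obtain ⟨f, hf, hf1, hCY, hNY⟩ := exists_card_normalizer_eq_of_simple hG Y hY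
    have h5 : 5 ∣ Nat.card (centralizer ((Y : Subgroup G) : Set G)) := hP ▸ card_dvd_of_le hPC
    obtain ⟨d, hd⟩ := Nat.Coprime.mul_dvd_of_dvd_of_dvd (by norm_num) hCY h5
    have hn7 := card_sylow_mem hG (p := 7) (k := 1) (m := 720) (by rw [h]; norm_num) (by norm_num) one_ne_zero
    rw [show (Nat.divisors 720).filter (fun d => d % 7 = 1 ∧ d ≠ 1) = {8, 15, 36, 120} from by
      decide +kernel] at hn7
    have hmul7 := card_normalizer_sylow_mul Y
    rw [h, hNY, hd] at hmul7
    have hf6 : f ≤ 6 := Nat.le_of_dvd (by norm_num) hf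
    simp only [Finset.mem_insert, Finset.mem_singleton] at hn7
    rcases hn7 with hn7 | hn7 | hn7 | hn7 <;> rw [hn7] at hmul7
    · have hk := card_centralizer_dvd_of_card_sylow hG (k := 1) Y hY (by rw [hn7])
      rw [hd] at hk
      have hle := Nat.le_of_dvd (by norm_num [Nat.factorial]) hk
      norm_num [Nat.factorial] at hle
      have hd0 : 0 < d := by
        rcases Nat.eq_zero_or_pos d with h0 | h0
        · subst h0; simp at hmul7
        · exact h0
      omega
    · have hk := card_centralizer_dvd_of_card_sylow hG (k := 2) Y hY (by rw [hn7])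
      rw [hd] at hk
      have hle := Nat.le_of_dvd (by norm_num [Nat.factorial]) hk
      norm_num [Nat.factorial] at hle
      have hd0 : 0 < d := by
        rcases Nat.eq_zero_or_pos d with h0 | h0
        · subst h0; simp at hmul7
        · exact h0
      omega
    · have hfd : f = 2 ∧ d = 2 := by
        have h4 : f * d = 4 := by nlinarith
        have : f ∣ 4 := Dvd.intro d h4
        interval_cases f <;> omega
      obtain ⟨rfl, rfl⟩ := hfd
      exact false_of_thirty_five h Y P hY hP (by rw [hNY, hd]) (show Nat.card N = 140 by omega) (by rw [hd]) hPC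
    · have : f * d * 4200 = 5040 := by nlinarith
      omega
  · exfalso
    rw [hn] at hmul
    have hC : Nat.card C = 45 := by
      interval_cases e <;> omega
    have he2 : e = 2 := by rw [hC] at hNc; omega
    obtain ⟨T⟩ := (inferInstance : Nonempty (Sylow 3 C))
    have hT : Nat.card (T : Subgroup C) = 3 ^ 2 :=
      card_sylow_eq T (k := 2) (m := 5) (by rw [hC]; norm_num) (by norm_num)
    have huniq : Nat.card (Sylow 3 C) = 1 := by
      have h1 := card_sylow_dvd (G := C) (p := 3) (k := 2) (m := 5) (by rw [hC]; norm_num) (by norm_num)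
      have h2 : Nat.card (Sylow 3 C) % 3 = 1 := card_sylow_modEq_one 3 C
      have := Nat.le_of_dvd (by norm_num) h1
      interval_cases Nat.card (Sylow 3 C) <;> omega
    set T' := (T : Subgroup C).map C.subtype with hT'
    have hT'c : Nat.card T' = 3 ^ 2 := by rw [card_map_of_injective C.subtype_injective, hT]
    have hNT : N ≤ normalizer (T' : Set G) :=
      le_normalizer_of_unique (k := 2) (m := 5) (normalizer_le_normalizer_centralizer _)
        (by rw [← hCdef, hC]; norm_num) (by norm_num) (map_subtype_le _) hT'c huniq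
    have hN90 : Nat.card N = 90 := by omega
    set M := normalizer (T' : Set G) with hM
    have hMt : M ≠ ⊤ := normalizer_ne_top
      (fun hh => by rw [hh, Subgroup.card_bot] at hT'c; norm_num at hT'c)
      (fun hh => by rw [hh, Subgroup.card_top, h] at hT'c; norm_num at hT'c)
    let S : Sylow 3 G := Sylow.ofCard T' (by
      rw [hT'c, h, show (5040 : ℕ) = 3 ^ 2 * 560 by norm_num,
        Nat.factorization_mul (by norm_num) (by norm_num), (Fact.out : Nat.Prime 3).factorization_pow]
      simp [Nat.factorization_eq_zero_of_not_dvd (n := 560) (p := 3) (by norm_num)])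
    have hn3 := card_sylow_mem hG (p := 3) (k := 2) (m := 560) (by rw [h]; norm_num) (by norm_num) (by norm_num)
    have hmulM := card_normalizer_sylow_mul S
    change Nat.card M * _ = _ at hmulM
    obtain ⟨d, hd⟩ := card_dvd_of_le hNT
    rw [hN90] at hd
    rw [hd, h] at hmulM
    have hn56 : Nat.card (Sylow 3 G) ∣ 56 := Dvd.intro_left d (by nlinarith)
    have hfac := two_mul_card_dvd_factorial_card_sylow hG (p := 3) (by rw [h]; norm_num)
    rw [h] at hfac
    have hn28 : Nat.card (Sylow 3 G) = 28 := by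
      rw [Finset.mem_filter] at hn3
      have h1 := Nat.le_of_dvd (by norm_num) hn56
      generalize Nat.card (Sylow 3 G) = n at *
      interval_cases n <;> first
        | omega
        | (exfalso; norm_num [Nat.factorial] at hfac)
    have hd2 : d = 2 := by rw [hn28] at hmulM; omega
    -- the Sylow five subgroups of the larger normalizer
    have hPM : (P : Subgroup G) ≤ M := le_normalizer.trans hNT
    have h5M := card_normalizer_sylow_mul (P.subtype hPM)
    have hNM : normalizer ((P.subtype hPM : Subgroup M) : Set M) = N.subgroupOf M := by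
      rw [hNdef, subgroupOf_normalizer_eq hPM]; rfl
    rw [hNM, Nat.card_congr (subgroupOfEquivOfLe hNT).toEquiv, hN90, hd, hd2] at h5M
    have hmod : Nat.card (Sylow 5 M) % 5 = 1 := card_sylow_modEq_one 5 M
    omega
  · exact hn
  · exfalso
    rw [hn] at hmul
    interval_cases e <;> omega

end Cfsg.Agent.Lib.SmallGroups.Order5040
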