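/-
The involution centralizing an element of order five in a simple group of order 5040 leads to a
Sylow 2-subgroup with a maximal subgroup containing only one involution; this contradicts the
Thompson transfer lemma.
-/
import Mathlib
import Cfsg.Agent.Lib.SmallGroups.Order5040.Five
import Cfsg.Agent.Lib.Involution.ThompsonTransfer
import Cfsg.Agent.Lib.Core.Nilpotent

set_option autoImplicit false
set_option linter.style.haveILetI false

namespace Cfsg.Agent.Lib.SmallGroups.Order5040

open Subgroup MulAction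

universe u

variable {G : Type u} [Group G] [Finite G]

omit [Finite G] in
/-- The subgroup `⟨c, x⟩` for `x² = c²` with `x` inverting `c`, given by its elements. -/
theorem exists_quaternion {c x : G} (hxx : x * x = c * c)
    (hxc : x * c * x⁻¹ = c⁻¹) :
    ∃ M : Subgroup G, c ∈ M ∧ x ∈ M ∧ ∀ g ∈ M, ∃ i : ℤ, g = c ^ i ∨ g = c ^ i * x := by
  have hmove : ∀ j : ℤ, x * c ^ j = c ^ (-j) * x := fun j => by
    have h1 : x * c ^ j * x⁻¹ = (x * c * x⁻¹) ^ j := conj_zpow.symm
    rw [hxc, inv_zpow, ← zpow_neg, mul_inv_eq_iff_eq_mul] at h1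
    exact h1
  have hxx' : x * x = c ^ (2 : ℤ) := by rw [hxx, zpow_two]
  have hxinv : x⁻¹ = c ^ (2 : ℤ) * x := by
    refine inv_eq_of_mul_eq_one_right ?_
    rw [← mul_assoc, hmove, mul_assoc, hxx', ← zpow_add]
    norm_num
  refine ⟨
    { carrier := {g | ∃ i : ℤ, g = c ^ i ∨ g = c ^ i * x}
      one_mem' := ⟨0, Or.inl (zpow_zero c).symm⟩
      mul_mem' := ?_
      inv_mem' := ?_ }, ⟨1, Or.inl (zpow_one c).symm⟩, ⟨0, Or.inr (by rw [zpow_zero, one_mul])⟩,
    fun g hg => hg⟩
  · rintro a b ⟨i, rfl | rfl⟩ ⟨j, rfl | rfl⟩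
    · exact ⟨i + j, Or.inl (zpow_add c i j).symm⟩
    · exact ⟨i + j, Or.inr (by rw [zpow_add, mul_assoc])⟩
    · exact ⟨i - j, Or.inr (by rw [mul_assoc, hmove, ← mul_assoc, ← zpow_add, ← sub_eq_add_neg])⟩
    · exact ⟨i - j + 2, Or.inl (by
        rw [mul_assoc, ← mul_assoc x, hmove, mul_assoc, hxx', ← zpow_add, ← zpow_add]
        congr 1; ring)⟩
  · rintro a ⟨i, rfl | rfl⟩
    · exact ⟨-i, Or.inl (zpow_neg c i).symm⟩
    · exact ⟨i + 2, Or.inr (by
        rw [mul_inv_rev, ← zpow_neg, hxinv, mul_assoc, hmove, neg_neg, ← mul_assoc, ← zpow_add]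
        congr 2; ring)⟩

/-- The automorphisms of a group of order five form a cyclic group of order four. -/
theorem mulAut_five {P : Subgroup G} (hP : Nat.card P = 5) :
    IsCyclic (MulAut P) ∧ Nat.card (MulAut P) = 4 := by
  haveI : Fact (Nat.Prime 5) := ⟨by norm_num⟩
  haveI hc : IsCyclic P := isCyclic_of_prime_card hP
  refine ⟨?_, by rw [hc.card_mulAut, hP, Nat.totient_prime (by norm_num)]⟩
  haveI : IsCyclic (ZMod 5)ˣ := inferInstance
  obtain ⟨E⟩ : Nonempty (MulAut P ≃* (ZMod 5)ˣ) := by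
    have e1 := IsCyclic.mulAutMulEquiv P
    rw [hP] at e1
    exact ⟨e1⟩
  exact isCyclic_of_surjective E.symm E.symm.surjective

variable [IsSimpleGroup G]

/-- The centralizer of an involution centralizing the normalizer of a Sylow 5-subgroup. -/
theorem centralizer_eq_normalizer (h : Nat.card G = 5040) [Fact (Nat.Prime 5)] (P : Sylow 5 G)
    (hN : Nat.card (normalizer ((P : Subgroup G) : Set G)) = 40) {a : G} (ha : orderOf a = 2)
    (hle : normalizer ((P : Subgroup G) : Set G) ≤ centralizer ({a} : Set G)) :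
    centralizer ({a} : Set G) = normalizer ((P : Subgroup G) : Set G) := by
  classical
  have hG : ¬ IsMulCommutative G := not_isMulCommutative_of_not_prime (by rw [h]; norm_num)
  have hP : Nat.card (P : Subgroup G) = 5 :=
    (card_sylow_eq P (k := 1) (m := 1008) (by rw [h]; norm_num) (by norm_num)).trans (pow_one 5)
  set N := normalizer ((P : Subgroup G) : Set G) with hNdef
  set H := centralizer ({a} : Set G) with hH
  have hPH : (P : Subgroup G) ≤ H := le_normalizer.trans hle
  have h5 := card_normalizer_sylow_mul (P.subtype hPH)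
  have hNM : normalizer ((P.subtype hPH : Subgroup H) : Set H) = N.subgroupOf H := by
    rw [hNdef, subgroupOf_normalizer_eq hPH]; rfl
  rw [hNM, Nat.card_congr (subgroupOfEquivOfLe hle).toEquiv, hN] at h5
  have hmod : Nat.card (Sylow 5 H) % 5 = 1 := card_sylow_modEq_one 5 H
  set n := Nat.card (Sylow 5 H) with hndef
  have hidx := H.card_mul_index
  rw [← h5, h] at hidx
  have hn126 : n ∣ 126 := ⟨H.index, by nlinarith⟩
  have hn : n ≤ 126 := Nat.le_of_dvd (by norm_num) hn126
  have hHt : H ≠ ⊤ := centralizer_ne_top hG (fun hh => by rw [hh, orderOf_one] at ha; norm_num at ha)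
  have hne1 : H.index ≠ 1 := fun hh => hHt (index_eq_one.mp hh)
  have hcases : n = 1 ∨ n = 6 ∨ n = 21 ∨ n = 126 := by
    have h7 : n ∈ Nat.divisors 126 := Nat.mem_divisors.mpr ⟨hn126, by norm_num⟩
    rw [show Nat.divisors 126 = {1, 2, 3, 6, 7, 9, 14, 18, 21, 42, 63, 126} from by decide +kernel] at h7
    simp only [Finset.mem_insert, Finset.mem_singleton] at h7
    omega
  rcases hcases with hc | hc | hc | hc
  · exact (Subgroup.eq_of_le_of_card_ge hle (by rw [← h5, hc, hN])).symm
  · exfalso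
    rw [hc] at hidx
    refine false_of_index_twenty_one hG P hP ha ?_ hle (show H.index = 21 by omega)
    refine mem_centralizer_iff.mpr fun y hy => ?_
    exact mem_centralizer_singleton_iff.mp (hPH hy)
  · exfalso
    rw [hc] at hidx
    have h6 := two_mul_card_dvd_factorial hG hHt
    rw [show H.index = 6 by omega, h] at h6
    norm_num [Nat.factorial] at h6
  · exfalso
    rw [hc] at hidx
    exact hne1 (by omega)

theorem false_of_order (h : Nat.card G = 5040) : False := by
  classical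
  haveI : Fact (Nat.Prime 5) := ⟨by norm_num⟩
  haveI : Fact (Nat.Prime 2) := ⟨Nat.prime_two⟩
  have hG : ¬ IsMulCommutative G := not_isMulCommutative_of_not_prime (by rw [h]; norm_num)
  obtain ⟨P⟩ := (inferInstance : Nonempty (Sylow 5 G))
  have hP : Nat.card (P : Subgroup G) = 5 :=
    (card_sylow_eq P (k := 1) (m := 1008) (by rw [h]; norm_num) (by norm_num)).trans (pow_one 5)
  set N := normalizer ((P : Subgroup G) : Set G) with hNdef
  set C := centralizer ((P : Subgroup G) : Set G) with hCdef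
  have hN : Nat.card N = 40 := by
    have h1 := card_normalizer_sylow_mul P
    rw [card_sylow_five h P, h, ← hNdef] at h1
    omega
  -- the Sylow 2-subgroup of the normalizer
  obtain ⟨T₀⟩ := (inferInstance : Nonempty (Sylow 2 N))
  set T := (T₀ : Subgroup N).map N.subtype with hTdef
  have hTN : T ≤ N := map_subtype_le _
  have hT : Nat.card T = 8 := by
    rw [hTdef, card_map_of_injective N.subtype_injective,
      card_sylow_eq T₀ (k := 3) (m := 5) (by rw [hN]; norm_num) (by norm_num)]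
    norm_num
  have hTp : IsPGroup 2 T := IsPGroup.of_card (n := 3) (by rw [hT]; norm_num)
  haveI : Group.IsNilpotent T := hTp.isNilpotent
  obtain ⟨hcyc, haut⟩ := mulAut_five hP
  let ψ : T →* MulAut (P : Subgroup G) :=
    (P : Subgroup G).normalizerMonoidHom.comp (Subgroup.inclusion hTN)
  have hψ : ∀ t : T, ψ t = 1 ↔ (t : G) ∈ C := fun t => by
    rw [← MonoidHom.mem_ker, MonoidHom.mem_ker, MonoidHom.comp_apply, ← MonoidHom.mem_ker,
      normalizerMonoidHom_ker, mem_subgroupOf]
    rfl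
  have hker : ψ.ker ≠ ⊥ := fun hk => by
    have h1 := card_dvd_of_injective ψ (MonoidHom.ker_eq_bot_iff ψ |>.mp hk)
    rw [hT, haut] at h1
    norm_num at h1
  have hmeet := Nilp.inf_center_ne_bot_of_normal (G := T) (N := ψ.ker) hker
  obtain ⟨⟨u₀, hu₀⟩, hu₀2⟩ : ∃ z : (ψ.ker ⊓ Subgroup.center T : Subgroup T), orderOf z = 2 := by
    refine exists_prime_orderOf_dvd_card' 2 ?_
    obtain ⟨n, hn⟩ := IsPGroup.iff_card.mp (hTp.to_subgroup (ψ.ker ⊓ Subgroup.center T))
    rcases Nat.eq_zero_or_pos n with rfl | hn0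
    · exact absurd (Subgroup.card_eq_one.mp (by simpa using hn)) hmeet
    · rw [hn]; exact dvd_pow_self 2 hn0.ne'
  rw [Subgroup.orderOf_mk, ← Subgroup.orderOf_coe] at hu₀2
  set u : G := (u₀ : G) with hudef
  have huT : u ∈ T := u₀.2
  have huC : u ∈ C := (hψ u₀).mp hu₀.1
  have huZ : ∀ t ∈ T, t * u = u * t := fun t ht =>
    congrArg Subtype.val (Subgroup.mem_center_iff.mp hu₀.2 ⟨t, ht⟩)
  -- involutions of `C` centralizing `T`
  have hcent : ∀ a : G, orderOf a = 2 → a ∈ C → (∀ t ∈ T, t * a = a * t) →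
      centralizer ({a} : Set G) = N := by
    intro a ha haC haT
    refine centralizer_eq_normalizer h P hN ha ?_
    have hPa : (P : Subgroup G) ≤ centralizer ({a} : Set G) := fun y hy =>
      mem_centralizer_singleton_iff.mpr (mem_centralizer_iff.mp haC y hy)
    have hTa : T ≤ centralizer ({a} : Set G) := fun t ht =>
      mem_centralizer_singleton_iff.mpr (haT t ht)
    have h40 : N = N ⊓ centralizer ({a} : Set G) := by
      refine (Subgroup.eq_of_le_of_card_ge inf_le_left (Nat.le_of_dvd Nat.card_pos ?_)).symm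
      rw [hN, show 40 = 5 * 8 by norm_num]
      refine Nat.Coprime.mul_dvd_of_dvd_of_dvd (by norm_num) ?_ ?_
      · have h1 := card_dvd_of_le (le_inf le_normalizer hPa : (P : Subgroup G) ≤ N ⊓ centralizer ({a} : Set G))
        rwa [hP] at h1
      · have h1 := card_dvd_of_le (le_inf hTN hTa)
        rwa [hT] at h1
    rw [← hNdef, h40]
    exact inf_le_right
  have hCu : centralizer ({u} : Set G) = N := hcent u hu₀2 huC huZ
  -- a Sylow 2-subgroup of the group
  obtain ⟨S, hTS⟩ := hTp.exists_le_sylow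
  have hS : Nat.card (S : Subgroup G) = 16 :=
    (card_sylow_eq S (k := 4) (m := 315) (by rw [h]; norm_num) (by norm_num)).trans (by norm_num)
  have hTi : (T.subgroupOf (S : Subgroup G)).index = 2 := by
    have h1 := (T.subgroupOf (S : Subgroup G)).card_mul_index
    rw [Nat.card_congr (subgroupOfEquivOfLe hTS).toEquiv, hT, hS] at h1
    omega
  haveI hTn := Subgroup.normal_of_index_eq_two hTi
  obtain ⟨x, hxS, hxT⟩ : ∃ x ∈ (S : Subgroup G), x ∉ T := by
    by_contra hh
    push Not at hh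
    have := card_dvd_of_le (show (S : Subgroup G) ≤ T from hh)
    rw [hS, hT] at this
    norm_num at this
  have hconj : ∀ g ∈ (S : Subgroup G), ∀ t ∈ T, g * t * g⁻¹ ∈ T := fun g hg t ht =>
    mem_subgroupOf.mp (hTn.conj_mem ⟨t, hTS ht⟩ (mem_subgroupOf.mpr ht) ⟨g, hg⟩)
  have hsplit : ∀ g ∈ (S : Subgroup G), g ∈ T ∨ x * g ∈ T := by
    intro g hg
    by_cases hgT : g ∈ T
    · exact Or.inl hgT
    · refine Or.inr ?_
      have h1 := (Subgroup.mul_mem_iff_of_index_two hTi (a := ⟨x, hxS⟩) (b := ⟨g, hg⟩)).mpr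
        ⟨fun hh => absurd (mem_subgroupOf.mp hh) hxT, fun hh => absurd (mem_subgroupOf.mp hh) hgT⟩
      exact mem_subgroupOf.mp h1
  have hxN : x ∉ N := fun hx => hxT (by
    have h1 : (S : Subgroup G) ⊓ N = T := by
      refine (Subgroup.eq_of_le_of_card_ge (le_inf hTS hTN) (Nat.le_of_dvd (by rw [hT]; norm_num) ?_)).symm
      rw [hT, show 8 = Nat.gcd 16 40 by norm_num]
      exact Nat.dvd_gcd (hS ▸ card_dvd_of_le inf_le_left) (hN ▸ card_dvd_of_le inf_le_right)
    exact h1.le ⟨hxS, hx⟩)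
  set u' := x * u * x⁻¹ with hu'def
  have hu'T : u' ∈ T := hconj x hxS u huT
  have hu'u : u' ≠ u := fun hh => hxN (by
    rw [← hCu, mem_centralizer_singleton_iff]
    rw [hu'def, mul_inv_eq_iff_eq_mul] at hh
    exact hh)
  have hu'2 : orderOf u' = 2 := by rw [hu'def, ← MulAut.conj_apply, MulEquiv.orderOf_eq, hu₀2]
  have hu'Z : ∀ t ∈ T, t * u' = u' * t := fun t ht => by
    have h1 := huZ _ (hconj x⁻¹ ((S : Subgroup G).inv_mem hxS) t ht)
    rw [inv_inv] at h1
    calc t * u' = x * (x⁻¹ * t * x * u) * x⁻¹ := by rw [hu'def]; group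
      _ = x * (u * (x⁻¹ * t * x)) * x⁻¹ := by rw [h1]
      _ = u' * t := by rw [hu'def]; group
  -- `T` is abelian
  have hab : ∀ s ∈ T, ∀ t ∈ T, s * t = t * s := by
    have hu'1 : u' ≠ 1 := fun hh => by rw [hh, orderOf_one] at hu'2; norm_num at hu'2
    have hu1 : u ≠ 1 := fun hh => by rw [hh, orderOf_one] at hu₀2; norm_num at hu₀2
    have h3 : 3 ≤ Nat.card (Subgroup.center T) := by
      haveI := Fintype.ofFinite (Subgroup.center T)
      let a : Subgroup.center T := ⟨⟨u, huT⟩, Subgroup.mem_center_iff.mpr fun t => Subtype.ext (huZ t t.2)⟩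
      let b : Subgroup.center T := ⟨⟨u', hu'T⟩, Subgroup.mem_center_iff.mpr fun t => Subtype.ext (hu'Z t t.2)⟩
      rw [Nat.card_eq_fintype_card, ← Finset.card_univ]
      refine le_trans (le_of_eq ?_) (Finset.card_le_card (Finset.subset_univ {1, a, b}))
      rw [Finset.card_insert_of_notMem, Finset.card_pair]
      · exact fun hh => hu'u (congrArg (fun z : Subgroup.center T => ((z : T) : G)) hh).symm
      · simp only [Finset.mem_insert, Finset.mem_singleton, not_or]
        exact ⟨fun hh => hu1 (congrArg (fun z : Subgroup.center T => ((z : T) : G)) hh).symm,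
          fun hh => hu'1 (congrArg (fun z : Subgroup.center T => ((z : T) : G)) hh).symm⟩
    have hmul := (Subgroup.center T).card_mul_index
    rw [hT] at hmul
    intro s hs t ht
    have hi : (Subgroup.center T).index ≤ 2 := by nlinarith
    have hi0 : 0 < (Subgroup.center T).index := Nat.pos_of_ne_zero index_ne_zero_of_finite
    have key : ∀ z : T, z ∈ Subgroup.center T → ∀ w : T, w * z = z * w := fun z hz w =>
      Subgroup.mem_center_iff.mp hz w
    by_cases hsZ : (⟨s, hs⟩ : T) ∈ Subgroup.center T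
    · exact (congrArg Subtype.val (key _ hsZ ⟨t, ht⟩)).symm
    by_cases htZ : (⟨t, ht⟩ : T) ∈ Subgroup.center T
    · exact congrArg Subtype.val (key _ htZ ⟨s, hs⟩)
    rcases (show (Subgroup.center T).index = 1 ∨ (Subgroup.center T).index = 2 by omega) with hh | hh
    · exact absurd (by rw [index_eq_one.mp hh]; exact Subgroup.mem_top _) hsZ
    · have h1 := (Subgroup.mul_mem_iff_of_index_two hh (a := (⟨s, hs⟩ : T)) (b := (⟨t, ht⟩ : T))).mpr
        ⟨fun h' => absurd h' hsZ, fun h' => absurd h' htZ⟩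
      have h2 : t * (s * t) = (s * t) * t := congrArg Subtype.val (key _ h1 ⟨t, ht⟩)
      rw [← mul_assoc] at h2
      exact (mul_right_cancel h2).symm
  -- involutions of `T ∩ C` are moved out of `C`
  have hmove : ∀ a ∈ T, a ∈ C → orderOf a = 2 → x * a * x⁻¹ ∉ C := by
    intro a haT haC ha hmem
    have hCa := hcent a ha haC fun t ht => hab t ht a haT
    have hCa' := hcent (x * a * x⁻¹) (by rw [← MulAut.conj_apply, MulEquiv.orderOf_eq, ha]) hmem
      fun t ht => hab t ht _ (hconj x hxS a haT)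
    refine hxN ?_
    have hmap : (P : Subgroup G).map (MulAut.conj x).toMonoidHom = (P : Subgroup G) := by
      refine Subgroup.eq_of_le_of_card_ge ?_ (by rw [card_map_of_injective (MulAut.conj x).injective])
      have hpg : IsPGroup 5 ((P : Subgroup G).map (MulAut.conj x).toMonoidHom) := P.2.map _
      have hle : (P : Subgroup G).map (MulAut.conj x).toMonoidHom ≤ normalizer (P : Set G) := by
        rintro _ ⟨y, hy, rfl⟩
        show x * y * x⁻¹ ∈ N
        rw [← hCa', mem_centralizer_singleton_iff]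
        have hya : y * a = a * y := mem_centralizer_singleton_iff.mp (hCa ▸ (le_normalizer hy : y ∈ N))
        calc x * y * x⁻¹ * (x * a * x⁻¹) = x * (y * a) * x⁻¹ := by group
          _ = x * (a * y) * x⁻¹ := by rw [hya]
          _ = x * a * x⁻¹ * (x * y * x⁻¹) := by group
      have h1 := hpg.inf_normalizer_sylow P
      rw [inf_eq_left.mpr hle, eq_comm, inf_eq_left] at h1
      exact h1
    rw [hNdef, mem_normalizer_iff]
    intro w
    conv_rhs => rw [← hmap]
    constructor
    · exact fun hw => ⟨w, hw, rfl⟩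
    · rintro ⟨v, hv, hvw⟩
      simp only [MulEquiv.coe_toMonoidHom, MulAut.conj_apply] at hvw
      rwa [mul_left_cancel (mul_right_cancel hvw)] at hv
  -- `T ∩ C` has order two
  have hK2 : Nat.card ψ.ker = 2 := by
    have h2 : 2 ≤ Nat.card ψ.ker := Finite.one_lt_card_iff_nontrivial.mpr
      ((Subgroup.nontrivial_iff_ne_bot _).mpr hker)
    have hd : Nat.card ψ.ker ∣ 8 := hT ▸ card_subgroup_dvd_card _
    by_contra hne
    let xS : T →* T :=
      { toFun := fun t => ⟨x * t * x⁻¹, hconj x hxS t t.2⟩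
        map_one' := Subtype.ext (by show x * 1 * x⁻¹ = 1; group)
        map_mul' := fun a b => Subtype.ext (by
          show x * ((a : G) * b) * x⁻¹ = x * a * x⁻¹ * (x * b * x⁻¹); group) }
    have hxi : Function.Injective xS := fun a b hab' => Subtype.ext
      (mul_left_cancel (mul_right_cancel (congrArg Subtype.val hab')))
    set K' := ψ.ker.map xS with hK'
    have hcK' : Nat.card K' = Nat.card ψ.ker := card_map_of_injective hxi
    by_cases hdis : Disjoint ψ.ker K'
    · have h1 := Nat.card_le_card_of_injective _ (Subgroup.mul_injective_of_disjoint hdis)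
      rw [Nat.card_prod, hcK', hT] at h1
      have := Nat.le_of_dvd (by norm_num) hd
      interval_cases Nat.card ψ.ker <;> omega
    · obtain ⟨⟨b, hb⟩, hb2⟩ : ∃ z : (ψ.ker ⊓ K' : Subgroup T), orderOf z = 2 := by
        refine exists_prime_orderOf_dvd_card' 2 ?_
        obtain ⟨n, hn⟩ := IsPGroup.iff_card.mp (hTp.to_subgroup (ψ.ker ⊓ K'))
        rcases Nat.eq_zero_or_pos n with rfl | hn0
        · exact absurd (disjoint_iff.mpr (Subgroup.card_eq_one.mp (by simpa using hn))) hdis
        · rw [hn]; exact dvd_pow_self 2 hn0.ne'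
      rw [Subgroup.orderOf_mk] at hb2
      obtain ⟨a, ha, rfl⟩ := hb.2
      rw [orderOf_injective xS hxi, ← Subgroup.orderOf_coe] at hb2
      exact hmove a a.2 ((hψ a).mp ha) hb2 ((hψ _).mp hb.1)
  have hKu : ∀ t ∈ T, t ∈ C → t = 1 ∨ t = u := by
    intro t ht htC
    haveI := Fintype.ofFinite ψ.ker
    by_contra hh
    push Not at hh
    have hu1 : u ≠ 1 := fun h' => by rw [h', orderOf_one] at hu₀2; norm_num at hu₀2
    let a : ψ.ker := ⟨u₀, hu₀.1⟩
    let b : ψ.ker := ⟨⟨t, ht⟩, MonoidHom.mem_ker.mpr ((hψ ⟨t, ht⟩).mpr htC)⟩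
    have h3 : ({1, a, b} : Finset ψ.ker).card = 3 := by
      rw [Finset.card_insert_of_notMem, Finset.card_pair]
      · exact fun h' => hh.2 (congrArg (fun z : ψ.ker => ((z : T) : G)) h').symm
      · simp only [Finset.mem_insert, Finset.mem_singleton, not_or]
        exact ⟨fun h' => hu1 (congrArg (fun z : ψ.ker => ((z : T) : G)) h').symm,
          fun h' => hh.1 (congrArg (fun z : ψ.ker => ((z : T) : G)) h').symm⟩
    have h4 := Finset.card_le_univ ({1, a, b} : Finset ψ.ker)
    rw [h3, ← Nat.card_eq_fintype_card, hK2] at h4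
    omega
  -- an element inducing an automorphism of order four
  obtain ⟨g₀, hg₀⟩ := IsCyclic.exists_generator (α := MulAut (P : Subgroup G))
  have hsurj : Function.Surjective ψ := by
    refine MonoidHom.range_eq_top.mp (Subgroup.eq_top_of_card_eq _ ?_)
    have h1 := ψ.ker.card_mul_index
    rw [index_ker, hK2, hT] at h1
    rw [haut]
    omega
  obtain ⟨f₀, hf₀⟩ := hsurj g₀
  have hordf : orderOf (ψ f₀) = 4 := by
    rw [hf₀, orderOf_eq_card_of_forall_mem_zpowers hg₀, haut]
  set f : G := (f₀ : G) with hfdef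
  have hfT : f ∈ T := f₀.2
  set w := f * f with hwdef
  clear_value w
  have hwT : w ∈ T := hwdef ▸ T.mul_mem hfT hfT
  have huu : u * u = 1 := by rw [← sq, ← hu₀2, pow_orderOf_eq_one]
  have hu1 : u ≠ 1 := fun hh => by rw [hh, orderOf_one] at hu₀2; norm_num at hu₀2
  have hrepr : ∀ t ∈ T, ∃ i : ℤ, t = f ^ i ∨ t = f ^ i * u := by
    intro t ht
    obtain ⟨i, hi⟩ : ψ ⟨t, ht⟩ ∈ zpowers (ψ f₀) := by rw [hf₀]; exact hg₀ _
    have hi' : ψ f₀ ^ i = ψ ⟨t, ht⟩ := hi
    have hmem : ((f₀ ^ i)⁻¹ * ⟨t, ht⟩ : T).1 ∈ C := by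
      rw [← hψ, map_mul, map_inv, map_zpow, hi', inv_mul_cancel]
    refine ⟨i, ?_⟩
    rcases hKu _ ((f₀ ^ i)⁻¹ * ⟨t, ht⟩ : T).2 hmem with h1 | h1
    · left
      have h2 : (f ^ i)⁻¹ * t = 1 := h1
      exact (inv_mul_eq_one.mp h2).symm
    · right
      have h2 : (f ^ i)⁻¹ * t = u := h1
      rw [← h2, mul_inv_cancel_left]
  have hfC : ∀ i : ℤ, f ^ i ∈ C → (4 : ℤ) ∣ i := fun i hi => by
    have h1 : ψ (f₀ ^ i) = 1 := (hψ _).mpr hi
    rw [map_zpow, ← orderOf_dvd_iff_zpow_eq_one, hordf] at h1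
    exact h1
  have hf4 : f ^ (4 : ℤ) = 1 := by
    have h1 : f ^ (4 : ℤ) ∈ C := by
      have h1' : ψ (f₀ ^ (4 : ℤ)) = 1 := by
        rw [map_zpow, ← orderOf_dvd_iff_zpow_eq_one, hordf]; norm_num
      exact (hψ _).mp h1'
    rcases hKu _ (T.zpow_mem hfT 4) h1 with h2 | h2
    · exact h2
    · exfalso
      -- then `T` would be cyclic
      obtain ⟨i, hi⟩ : ∃ i : ℤ, u' = f ^ i := by
        obtain ⟨i, hi | hi⟩ := hrepr u' hu'T
        · exact ⟨i, hi⟩
        · exact ⟨i + 4, by rw [hi, zpow_add, h2]⟩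
      have h8 : f ^ (i * 2) = 1 := by
        rw [zpow_mul, ← hi, zpow_two, ← sq, ← hu'2, pow_orderOf_eq_one]
      have h3 : (4 : ℤ) ∣ i * 2 := hfC _ (by rw [h8]; exact C.one_mem)
      obtain ⟨j, rfl⟩ : (2 : ℤ) ∣ i := by omega
      have h4 : (4 : ℤ) ∣ 2 * j := by
        refine hfC _ ?_
        by_contra hnot
        obtain ⟨k, hk⟩ : ∃ k, j = 2 * k + 1 := ⟨j / 2, by
          by_contra hjj
          obtain ⟨l, rfl⟩ : (2 : ℤ) ∣ j := by omega
          refine hnot ?_
          rw [show (2 : ℤ) * (2 * l) = 4 * l by ring, zpow_mul, h2]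
          exact C.zpow_mem huC l⟩
        have h5 : f ^ (2 * j * 2) = u := by
          rw [show 2 * j * 2 = 4 * (2 * k + 1) by rw [hk]; ring, zpow_mul, h2, zpow_add, zpow_mul,
            zpow_two, huu, one_zpow, one_mul, zpow_one]
        exact hu1 (h5.symm.trans h8)
      obtain ⟨l, hl⟩ := h4
      rw [show 2 * j = 4 * l by omega, zpow_mul, h2] at hi
      rcases Int.even_or_odd' l with ⟨m, rfl | rfl⟩
      · rw [zpow_mul, zpow_two, huu, one_zpow] at hi
        rw [hi, orderOf_one] at hu'2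
        norm_num at hu'2
      · rw [zpow_add, zpow_mul, zpow_two, huu, one_zpow, one_mul, zpow_one] at hi
        exact hu'u hi
  have hw2 : w = f ^ (2 : ℤ) := by rw [hwdef, zpow_two]
  have hwC : w ∉ C := fun hh => by
    have := hfC 2 (hw2 ▸ hh)
    omega
  have hw1 : w ≠ 1 := fun hh => hwC (hh ▸ C.one_mem)
  have hwu : w ≠ u := fun hh => hwC (hh ▸ huC)
  have hfu : f * u = u * f := hab f hfT u huT
  have hpow : ∀ i : ℤ, f ^ i = 1 ∨ f ^ i = f ∨ f ^ i = w ∨ f ^ i = f⁻¹ := by
    intro i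
    have key : ∀ r : ℤ, i % 4 = r → f ^ i = f ^ r := fun r hr => by
      rw [show i = r + 4 * (i / 4) by omega, zpow_add, zpow_mul, hf4, one_zpow, mul_one]
    rcases (show i % 4 = 0 ∨ i % 4 = 1 ∨ i % 4 = 2 ∨ i % 4 = 3 by omega) with h0 | h0 | h0 | h0
    · left; rw [key 0 h0, zpow_zero]
    · right; left; rw [key 1 h0, zpow_one]
    · right; right; left; rw [key 2 h0, hw2]
    · right; right; right
      rw [key 3 h0, eq_inv_iff_mul_eq_one, ← zpow_add_one, show (3 : ℤ) + 1 = 4 by norm_num, hf4]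
  have hww : w * w = 1 := by rw [hw2, ← zpow_add, show (2 : ℤ) + 2 = 4 by norm_num, hf4]
  have hwi : f⁻¹ * f⁻¹ = w := by
    rw [← mul_inv_rev, ← hwdef, inv_eq_of_mul_eq_one_right hww]
  have hall : ∀ t ∈ T, t = 1 ∨ t = f ∨ t = w ∨ t = f⁻¹ ∨ t = u ∨ t = f * u ∨ t = w * u ∨
      t = f⁻¹ * u := by
    intro t ht
    obtain ⟨i, hi | hi⟩ := hrepr t ht <;> rcases hpow i with h1 | h1 | h1 | h1 <;> rw [h1] at hi <;>
      first
        | (rw [one_mul] at hi; subst hi; simp)
        | (subst hi; simp)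
  have hsq : ∀ t ∈ T, t * t = 1 ∨ t * t = w := by
    intro t ht
    have h2 : ∀ z ∈ T, (z * u) * (z * u) = z * z := fun z hz => by
      rw [mul_assoc, ← mul_assoc u, ← hab z hz u huT, mul_assoc z u u, huu, mul_one]
    rcases hall t ht with rfl | rfl | rfl | rfl | rfl | rfl | rfl | rfl
    · left; exact mul_one 1
    · right; exact hwdef.symm
    · left; exact hww
    · right; exact hwi
    · left; exact huu
    · right; rw [h2 f hfT, ← hwdef]
    · left; rw [h2 w hwT, hww]
    · right; rw [h2 f⁻¹ (T.inv_mem hfT), hwi]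
  -- the action of `x`
  have hu'w : u' = w * u := by
    have hu'sq : u' * u' = 1 := by rw [← sq, ← hu'2, pow_orderOf_eq_one]
    rcases hall u' hu'T with h1 | h1 | h1 | h1 | h1 | h1 | h1 | h1
    · rw [h1, orderOf_one] at hu'2; norm_num at hu'2
    · exact absurd (show w = 1 by rw [hwdef, ← h1, hu'sq]) hw1
    · exfalso
      have ht : x⁻¹ * f * x ∈ T := by simpa using hconj x⁻¹ ((S : Subgroup G).inv_mem hxS) f hfT
      -- `u` would be a square in `T`
      have h3 : x * u * x⁻¹ = w := h1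
      have h6 : x⁻¹ * w * x = u := by rw [← h3]; group
      rcases hsq _ ht with h4 | h4
      · refine hu1 ?_
        rw [← h6, hwdef, ← h4]
        group
      · refine hwu ?_
        rw [← h6]
        nth_rw 2 [hwdef]
        rw [← h4]
        group
    · exact absurd (show w = 1 by rw [← hwi, ← h1, hu'sq]) hw1
    · exact absurd h1 hu'u
    · exfalso
      refine hw1 ?_
      rw [hwdef, ← hu'sq, h1, mul_assoc, ← mul_assoc u, ← hfu, mul_assoc f u u, huu, mul_one]
    · exact h1
    · exfalso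
      refine hw1 ?_
      rw [← hwi, ← hu'sq, h1, mul_assoc, ← mul_assoc u, ← hab _ (T.inv_mem hfT) u huT,
        mul_assoc f⁻¹ u u, huu, mul_one]
  have hf'T := hconj x hxS f hfT
  have hxw : x * w * x⁻¹ = w := by
    have h1 : x * w * x⁻¹ = (x * f * x⁻¹) * (x * f * x⁻¹) := by rw [hwdef]; group
    rcases hsq _ hf'T with h2 | h2
    · exfalso
      rw [h2, mul_inv_eq_one] at h1
      exact hw1 (mul_left_cancel (h1.trans (mul_one x).symm))
    · rw [h1, h2]
  have hxu : x * u * x⁻¹ = w * u := hu'w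
  have hwu' : w * u = u * w := hab w hwT u huT
  have hxxT : x * x ∈ T := by
    rcases hsplit x hxS with h1 | h1
    · exact absurd h1 hxT
    · exact h1
  -- generators adapted to `x`
  obtain ⟨c, d, hcT, hdT, hc2, hd2, hxc, hxd⟩ : ∃ c d : G, c ∈ T ∧ d ∈ T ∧ c * c = w ∧ d * d = w ∧
      x * c * x⁻¹ = c⁻¹ ∧ x * d * x⁻¹ = d := by
    have hfu2 : (f * u) * (f * u) = w := by
      rw [mul_assoc, ← mul_assoc u, ← hfu, mul_assoc f u u, huu, mul_one, ← hwdef]
    have hmul : ∀ z : G, x * (z * u) * x⁻¹ = (x * z * x⁻¹) * (w * u) := fun z => by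
      rw [← hxu]; group
    have hfi : f⁻¹ = f * w := by
      refine inv_eq_of_mul_eq_one_right ?_
      rw [← mul_assoc, ← hwdef, hww]
    have hbad : ∀ z ∈ T, x * z * x⁻¹ = z * u * w → False := fun z hz hzx => by
      have h1 : x * x * z * (x * x)⁻¹ = z := by
        rw [mul_inv_eq_iff_eq_mul]; exact hab _ hxxT z hz
      have h2 : x * x * z * (x * x)⁻¹ = x * (x * z * x⁻¹) * x⁻¹ := by group
      rw [h1, hzx, show x * (z * u * w) * x⁻¹ = (x * z * x⁻¹) * (x * u * x⁻¹) * (x * w * x⁻¹) by group,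
        hzx, hxu, hxw] at h2
      refine hw1 ?_
      have h3 : z * u * w * (w * u) * w = z * w := by
        rw [mul_assoc (z * u) w, ← mul_assoc w w u, hww, one_mul, mul_assoc z u u, huu, mul_one]
      rw [h3] at h2
      exact mul_left_cancel (h2.symm.trans (mul_one z).symm)
    rcases hall _ hf'T with h1 | h1 | h1 | h1 | h1 | h1 | h1 | h1
    · exact absurd (by
        rw [mul_inv_eq_one] at h1
        exact (show f = 1 from mul_left_cancel (h1.trans (mul_one x).symm))) fun hh =>
        hw1 (by rw [hwdef, hh, mul_one])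
    · refine ⟨f * u, f, T.mul_mem hfT huT, hfT, hfu2, hwdef.symm, ?_, h1⟩
      rw [hmul, h1, mul_inv_rev, inv_eq_of_mul_eq_one_right huu, hfi, hwu', ← mul_assoc, hfu, mul_assoc]
    · exfalso
      have h2 : x * f * x⁻¹ = x * w * x⁻¹ := h1.trans hxw.symm
      have h3 : f = w := mul_left_cancel (mul_right_cancel h2)
      exact hw1 (mul_left_cancel (show f * w = f * 1 by rw [mul_one, ← h3, ← hwdef, ← h3]))
    · refine ⟨f, f * u, hfT, T.mul_mem hfT huT, hwdef.symm, hfu2, h1, ?_⟩
      rw [hmul, h1, ← mul_assoc, show f⁻¹ * w = f by rw [hwdef, inv_mul_cancel_left]]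
    · exfalso
      refine hw1 ?_
      rw [← hxw, hwdef, show x * (f * f) * x⁻¹ = (x * f * x⁻¹) * (x * f * x⁻¹) by group, h1, huu]
    · exfalso
      refine hbad (f * u) (T.mul_mem hfT huT) ?_
      rw [hmul, h1, mul_assoc (f * u) u w, hwu']
    · exfalso
      refine hw1 ?_
      rw [← hxw, hwdef, show x * (f * f) * x⁻¹ = (x * f * x⁻¹) * (x * f * x⁻¹) by group, h1, mul_assoc,
        ← mul_assoc u, ← hwu', mul_assoc w u u, huu, mul_one, hww]
    · exfalso
      refine hbad f hfT ?_
      rw [h1, hfi, mul_assoc f w u, hwu', ← mul_assoc]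
  have hc4 : c ^ (4 : ℤ) = 1 := by
    rw [show (4 : ℤ) = 2 + 2 by norm_num, zpow_add, zpow_two, hc2, hww]
  have hdord : orderOf d = 4 := by
    refine orderOf_eq_prime_pow (p := 2) (n := 1) ?_ ?_
    · rw [pow_one, sq, hd2]; exact hw1
    · rw [show 2 ^ (1 + 1) = 2 + 2 by norm_num, pow_add, sq, hd2, hww]
  have hcne : c⁻¹ ≠ c := fun hh => hw1 (by rw [← hc2]; nth_rw 1 [← hh]; exact inv_mul_cancel c)
  have hxd' : ∀ i : ℤ, x * d ^ i * x⁻¹ = d ^ i := fun i => by rw [← conj_zpow, hxd]
  have hD2 : ((zpowers d).subgroupOf T).index = 2 := by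
    have h1 := ((zpowers d).subgroupOf T).card_mul_index
    rw [Nat.card_congr (subgroupOfEquivOfLe (zpowers_le.mpr hdT)).toEquiv, Nat.card_zpowers, hdord, hT] at h1
    omega
  have hcd : c ∉ zpowers d := fun hh => by
    obtain ⟨i, hi⟩ := mem_zpowers_iff.mp hh
    refine hcne ?_
    rw [← hxc, ← hi, hxd']
  obtain ⟨j, hj⟩ : ∃ j : ℤ, d ^ j = x * x := by
    refine mem_zpowers_iff.mp ?_
    by_contra hh
    have h1 := (Subgroup.mul_mem_iff_of_index_two hD2 (a := (⟨c, hcT⟩ : T)) (b := ⟨x * x, hxxT⟩)).mpr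
      ⟨fun h' => absurd (mem_subgroupOf.mp h') hcd, fun h' => absurd (mem_subgroupOf.mp h') hh⟩
    obtain ⟨i, hi⟩ := mem_zpowers_iff.mp (mem_subgroupOf.mp h1)
    have hi' : d ^ i = c * (x * x) := hi
    have h2 := hxd' i
    rw [hi', show x * (c * (x * x)) * x⁻¹ = (x * c * x⁻¹) * (x * x) by group, hxc] at h2
    exact hcne (mul_right_cancel h2)
  -- a maximal subgroup of `S` with one involution
  obtain ⟨M, hMS, hM8, hMinv⟩ : ∃ M : Subgroup G, M ≤ (S : Subgroup G) ∧ Nat.card M = 8 ∧
      ∀ g ∈ M, orderOf g = 2 → g = w := by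
    rcases Int.even_or_odd' j with ⟨k, rfl | rfl⟩
    · -- a quaternion group
      obtain ⟨y, hyS, hyT, hy2, hyc⟩ : ∃ y ∈ (S : Subgroup G), y ∉ T ∧ y * y = w ∧
          y * c * y⁻¹ = c⁻¹ := by
        rw [zpow_mul, zpow_two, hd2] at hj
        rcases Int.even_or_odd' k with ⟨l, rfl | rfl⟩
        · refine ⟨x * d, (S : Subgroup G).mul_mem hxS (hTS hdT), fun hh => hxT ?_, ?_, ?_⟩
          · simpa using T.mul_mem hh (T.inv_mem hdT)
          · rw [zpow_mul, zpow_two, hww, one_zpow] at hj
            rw [show x * d * (x * d) = (x * d * x⁻¹) * (x * x) * d by group, hxd, ← hj, mul_one, hd2]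
          · rw [show x * d * c * (x * d)⁻¹ = x * (d * c * d⁻¹) * x⁻¹ by group, hab d hdT c hcT,
              mul_inv_cancel_right, hxc]
        · refine ⟨x, hxS, hxT, ?_, hxc⟩
          rw [← hj, zpow_add, zpow_mul, zpow_two, hww, one_zpow, one_mul, zpow_one]
      obtain ⟨M, hcM, hyM, hMel⟩ := exists_quaternion (hy2.trans hc2.symm) hyc
      have hMS : M ≤ (S : Subgroup G) := fun g hg => by
        obtain ⟨i, rfl | rfl⟩ := hMel g hg
        · exact hTS (T.zpow_mem hcT i)
        · exact (S : Subgroup G).mul_mem (hTS (T.zpow_mem hcT i)) hyS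
      have hinv : ∀ g ∈ M, orderOf g = 2 → g = w := by
        intro g hg hg2
        have hgg : g * g = 1 := by rw [← sq, ← hg2, pow_orderOf_eq_one]
        obtain ⟨i, rfl | rfl⟩ := hMel g hg
        · rw [← zpow_add] at hgg
          obtain ⟨l, rfl⟩ : (2 : ℤ) ∣ i := by
            by_contra hodd
            obtain ⟨l, rfl⟩ : ∃ l, i = 2 * l + 1 := ⟨i / 2, by omega⟩
            refine hw1 ?_
            rw [show (2 * l + 1) + (2 * l + 1) = 4 * l + 2 by ring, zpow_add, zpow_mul, hc4, one_zpow,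
              one_mul, zpow_two, hc2] at hgg
            exact hgg
          rcases Int.even_or_odd' l with ⟨m, rfl | rfl⟩
          · rw [show 2 * (2 * m) = 4 * m by ring, zpow_mul, hc4, one_zpow, orderOf_one] at hg2
            norm_num at hg2
          · rw [show 2 * (2 * m + 1) = 4 * m + 2 by ring, zpow_add, zpow_mul, hc4, one_zpow, one_mul,
              zpow_two, hc2]
        · refine absurd ?_ hw1
          have hmove : y * c ^ i = c ^ (-i) * y := by
            have h1 : y * c ^ i * y⁻¹ = (y * c * y⁻¹) ^ i := conj_zpow.symm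
            rwa [hyc, inv_zpow, ← zpow_neg, mul_inv_eq_iff_eq_mul] at h1
          rw [mul_assoc, ← mul_assoc y, hmove, mul_assoc, hy2, ← mul_assoc, ← zpow_add, add_neg_cancel,
            zpow_zero, one_mul] at hgg
          exact hgg
      refine ⟨M, hMS, ?_, hinv⟩
      have hd16 : Nat.card M ∣ 16 := hS ▸ card_dvd_of_le hMS
      have hcord : orderOf c = 4 := by
        refine orderOf_eq_prime_pow (p := 2) (n := 1) ?_ ?_
        · rw [pow_one, sq, hc2]; exact hw1
        · rw [show 2 ^ (1 + 1) = 2 + 2 by norm_num, pow_add, sq, hc2, hww]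
      have h4 : 4 ∣ Nat.card M := by
        have := card_dvd_of_le (zpowers_le.mpr hcM)
        rwa [Nat.card_zpowers, hcord] at this
      have hne4 : Nat.card M ≠ 4 := fun hh => hyT (by
        have h1 : zpowers c = M :=
          Subgroup.eq_of_le_of_card_ge (zpowers_le.mpr hcM) (by rw [Nat.card_zpowers, hcord, hh])
        exact zpowers_le.mpr hcT (h1.symm ▸ hyM))
      have hne16 : Nat.card M ≠ 16 := fun hh => hwu (hinv u (by
        rw [Subgroup.eq_of_le_of_card_ge hMS (by rw [hS, hh])]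
        exact hTS huT) hu₀2).symm
      have := Nat.le_of_dvd (by norm_num) hd16
      interval_cases Nat.card M <;> omega
    · -- a cyclic group
      have hxx : x * x = d ^ (2 * k + 1) := hj.symm
      have h4x : x ^ 4 = w := by
        rw [show (4 : ℕ) = 2 * 2 by norm_num, pow_mul, sq x, hxx, sq, ← zpow_add,
          show 2 * k + 1 + (2 * k + 1) = 4 * k + 2 by ring, zpow_add, zpow_mul]
        rw [show d ^ (4 : ℤ) = 1 by rw [show (4 : ℤ) = 2 + 2 by norm_num, zpow_add, zpow_two, hd2, hww],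
          one_zpow, one_mul, zpow_two, hd2]
      have hxord : orderOf x = 8 := by
        refine orderOf_eq_prime_pow (p := 2) (n := 2) ?_ ?_
        · rw [show 2 ^ 2 = 4 by norm_num, h4x]; exact hw1
        · rw [show 2 ^ (2 + 1) = 4 * 2 by norm_num, pow_mul, h4x, sq, hww]
      refine ⟨zpowers x, zpowers_le.mpr hxS, by rw [Nat.card_zpowers, hxord], fun g hg hg2 => ?_⟩
      obtain ⟨i, rfl⟩ := mem_zpowers_iff.mp hg
      have hgg : x ^ (i * 2) = 1 := by
        rw [zpow_mul, zpow_two, ← sq, ← hg2, pow_orderOf_eq_one]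
      rw [← orderOf_dvd_iff_zpow_eq_one, hxord] at hgg
      obtain ⟨m, rfl⟩ : (4 : ℤ) ∣ i := by
        have h8 : (8 : ℤ) ∣ i * 2 := hgg
        omega
      have h4z : x ^ (4 : ℤ) = w := by rw [show (4 : ℤ) = ((4 : ℕ) : ℤ) by norm_num, zpow_natCast, h4x]
      rw [zpow_mul, h4z] at hg2 ⊢
      rcases Int.even_or_odd' m with ⟨l, rfl | rfl⟩
      · rw [zpow_mul, zpow_two, hww, one_zpow, orderOf_one] at hg2
        norm_num at hg2
      · rw [zpow_add, zpow_mul, zpow_two, hww, one_zpow, one_mul, zpow_one]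
  -- transfer
  have hno : ∀ H : Subgroup G, H.index ≠ 2 := fun H hH => by
    rcases (Subgroup.normal_of_index_eq_two hH).eq_bot_or_eq_top with hb | ht
    · rw [hb, index_bot, h] at hH; norm_num at hH
    · rw [ht, index_top] at hH; norm_num at hH
  have hrel : M.relIndex (S : Subgroup G) = 2 := by
    have h1 := (M.subgroupOf (S : Subgroup G)).card_mul_index
    rw [Nat.card_congr (subgroupOfEquivOfLe hMS).toEquiv, hM8, hS] at h1
    rw [relIndex]; omega
  obtain ⟨g, hg⟩ := Involution.exists_conj_mem_of_no_index_two hno S M hMS hrel u hu₀2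
  have hgw : g * u * g⁻¹ = w := hMinv _ hg (by rw [← MulAut.conj_apply, MulEquiv.orderOf_eq, hu₀2])
  have hCw : Nat.card (centralizer ({w} : Set G)) = 40 := by
    have h1 := Involution.card_centralizer_conj g u
    rw [hgw, hCu, hN] at h1
    exact h1
  have hSw : (S : Subgroup G) ≤ centralizer ({w} : Set G) := fun s hs => by
    rw [mem_centralizer_singleton_iff]
    rcases hsplit s hs with h1 | h1
    · exact hab s h1 w hwT
    · have h2 := hab _ h1 w hwT
      rw [mul_inv_eq_iff_eq_mul] at hxw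
      refine mul_left_cancel (a := x) ?_
      rw [← mul_assoc, h2, ← mul_assoc, ← hxw, mul_assoc]
  have := card_dvd_of_le hSw
  rw [hS, hCw] at this
  norm_num at this

end Cfsg.Agent.Lib.SmallGroups.Order5040
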